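import Cfsg.Agent.Lib.MO24.Eng
import Cfsg.Agent.Lib.MO.Stage

/-!
# Domains of values and candidates for principal blocks
-/

set_option autoImplicit false

namespace Cfsg.Lib.MO24

open List Cfsg.Lib.Golay Cfsg.Lib.MO Cfsg.Lib.Small

section
variable {α β : Type}

noncomputable def mp (f : α → β) (l : List α) : List β := List.rec [] (fun a _ r => f a :: r) l

@[simp] theorem mp_eq (f : α → β) (l : List α) : mp f l = l.map f := by
  induction l with
  | nil => rfl
  | cons a l ih => exact congrArg (f a :: ·) ih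

noncomputable def fl (f : α → Bool) (l : List α) : List α :=
  List.rec [] (fun a _ r => Bool.rec r (a :: r) (f a)) l

@[simp] theorem fl_eq (f : α → Bool) (l : List α) : fl f l = l.filter f := by
  induction l with
  | nil => rfl
  | cons a l ih =>
    change (Bool.rec (fl f l) (a :: fl f l) (f a) : List α) = _
    rw [ih, filter_cons]
    cases f a <;> rfl

noncomputable def fm (f : α → List β) (l : List α) : List β :=
  List.rec [] (fun a _ r => List.rec r (fun b _ s => b :: s) (f a)) l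

@[simp] theorem fm_eq (f : α → List β) (l : List α) : fm f l = l.flatMap f := by
  induction l with
  | nil => rfl
  | cons a l ih =>
    change (List.rec (fm f l) (fun b _ s => b :: s) (f a) : List β) = _
    rw [ih, flatMap_cons]
    induction f a with
    | nil => rfl
    | cons b t ih => exact congrArg (b :: ·) ih

noncomputable def rp (t : ℕ) (x : α) : List α := Nat.rec [] (fun _ r => x :: r) t

@[simp] theorem rp_eq (t : ℕ) (x : α) : rp t x = replicate t x := by
  induction t with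
  | zero => rfl
  | succ t ih => exact congrArg (x :: ·) ih

@[simp] theorem allR_eq (f : α → Bool) (l : List α) : allR f l = l.all f :=
  Bool.eq_iff_iff.2 ⟨fun h => all_eq_true.2 fun _ => allR_mem h, fun h => allR_of (all_eq_true.1 h)⟩

end

theorem imp_of_rec {a b : Bool} (h : (Bool.rec true b a : Bool) = true) (h1 : a = true) : b = true := by
  subst h1; exact h

theorem and_of_rec {a b : Bool} (h : (Bool.rec false b a : Bool) = true) : a = true ∧ b = true := by
  cases a
  · cases h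
  · exact ⟨rfl, h⟩

noncomputable def ap (L o r c : ℕ) : List ℤ :=
  Nat.rec [] (fun i t => Int.subNatNat (Nat.add r (Nat.mul L i)) o :: t) c

theorem mem_ap {L o r c i : ℕ} (h : i < c) : ((r + L * i : ℕ) : ℤ) - o ∈ ap L o r c := by
  induction c with
  | zero => cases h
  | succ c ih =>
    refine mem_cons.2 ((Nat.lt_succ_iff_lt_or_eq.1 h).symm.imp (fun e => ?_) ih)
    rw [e, Int.subNatNat_eq_coe]; rfl

def lc (k M d : ℕ) : ℕ :=
  Nat.div (Nat.mul (Nat.div d (Nat.gcd d k)) M) (Nat.gcd (Nat.div d (Nat.gcd d k)) M)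

/-- the values `x` with `|x| ≤ B`, `x ≡ d` modulo `M`, and `d ∣ k x` -/
noncomputable def dom (k M B d : ℕ) : List ℤ :=
  force (lc k M d) fun L => force (Nat.mod (Nat.add d B) L) fun r =>
    frL (ap L B r ((2 * B + L - r) / L)) id

def ne (k M B d : ℕ) : Bool := Nat.ble (Nat.mod (Nat.add d B) (lc k M d)) (Nat.mul 2 B)

/-- `x` is an admissible value -/
def Adm (k M B d : ℕ) (x : ℤ) : Prop := d ∣ k * x.natAbs ∧ x.natAbs ≤ B ∧ M ∣ (d - x).natAbs

theorem mem_dom {k M B d : ℕ} {x : ℤ} (hk : 0 < k) (hd : 0 < d) (hM : 0 < M) (h : Adm k M B d x) :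
    x ∈ dom k M B d ∧ ne k M B d = true := by
  obtain ⟨h1, h2, h3⟩ := h
  have h4 := Nat.gcd_pos_of_pos_right d hk
  have h5 : d / d.gcd k ∣ x.natAbs := by
    refine (Nat.coprime_div_gcd_div_gcd h4).dvd_of_dvd_mul_left (Nat.dvd_of_mul_dvd_mul_left h4 ?_)
    rwa [← mul_assoc, Nat.mul_div_cancel' (Nat.gcd_dvd_left _ _),
      Nat.mul_div_cancel' (Nat.gcd_dvd_right _ _)]
  have h6 : 0 < lc k M d := Nat.lcm_pos (Nat.div_pos (Nat.gcd_le_left _ hd) h4) hM
  have h7 : lc k M d ∣ (d - x).natAbs := Nat.lcm_dvd (Int.natCast_dvd.1 (dvd_sub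
    (Int.natCast_dvd_natCast.2 (Nat.div_dvd_of_dvd (Nat.gcd_dvd_left _ _))) (Int.natCast_dvd.2 h5))) h3
  simp only [dom, ne, force_eq, frL_eq, id]
  generalize lc k M d = L at h6 h7
  obtain ⟨v, hv⟩ : ∃ v : ℕ, x + B = v := ⟨(x + B).toNat, by omega⟩
  have h8 : Nat.mod (Nat.add d B) L = v % L := Nat.modEq_iff_dvd.2 (by
    rw [← Int.natCast_dvd, ← dvd_neg] at h7
    exact h7.trans (dvd_of_eq (by change _ = _ - ((d + B : ℕ) : ℤ); omega)))
  have h9 := Nat.mod_add_div v L
  have h10 := Nat.mod_le v L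
  rw [h8]
  refine ⟨?_, Nat.ble_eq_true_of_le (show _ ≤ 2 * B by omega)⟩
  rw [show x = ((v % L + L * (v / L) : ℕ) : ℤ) - B by rw [h9]; omega]
  refine mem_ap (Nat.lt_of_succ_le ((Nat.le_div_iff_mul_le h6).2 ?_))
  rw [Nat.succ_mul, mul_comm]
  omega

/-! ### Multisets with a given sum -/

inductive SL where
  | nil : SL
  | cons (lo hi a q : ℕ) (v : ℤ) (t : SL) : SL

def toSL : List ℤ → SL
  | [] => .nil
  | v :: t => .cons (16384 - v.natAbs) (16384 + v.natAbs) (v + 16384).toNat (v.natAbs ^ 2) v (toSL t)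

noncomputable def mS (L : SL) : ℕ :=
  SL.rec 0 (fun _ _ a _ _ _ ih => Nat.lor (Nat.shiftLeft 1 a) ih) L

theorem tb_mS {L : List ℤ} {v : ℤ} (h : v ∈ L) : tb (mS (toSL L)) (v + 16384).toNat = true := by
  rw [tb_eq]
  induction L with
  | nil => cases h
  | cons a L ih =>
    change Nat.testBit (1 <<< (a + 16384).toNat ||| mS (toSL L)) _ = true
    rcases mem_cons.1 h with rfl | h
    · simp [Nat.testBit_shiftLeft]
    · simp [ih h]

noncomputable def frS (l : List ℤ) : (SL → Bool) → Bool :=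
  List.rec (motive := fun _ => (SL → Bool) → Bool) (fun c => c .nil)
    (fun v _ ih c => force v.natAbs fun d => force (Nat.sub 16384 d) fun lo =>
      force (Nat.add 16384 d) fun hi => force (v + 16384).toNat fun a => force (Nat.pow d 2) fun q =>
      ih fun S => c (.cons lo hi a q v S)) l

theorem frS_eq (l : List ℤ) (c : SL → Bool) : frS l c = c (toSL l) := by
  induction l generalizing c with
  | nil => rfl
  | cons v l ih =>
    change force v.natAbs (fun d => force (16384 - d) fun lo => force (16384 + d) fun hi =>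
      force (v + 16384).toNat fun a => force (d ^ 2) fun q =>
      frS l fun S => c (.cons lo hi a q v S)) = _
    simp only [force_eq, ih]
    rfl

noncomputable def sol (m : ℕ) (F : List ℤ → Bool) (k : ℕ) : SL → ℕ → ℕ → List ℤ → Bool :=
  Nat.rec (motive := fun _ => SL → ℕ → ℕ → List ℤ → Bool)
    (fun L s b acc => SL.rec true (fun lo hi _ _ _ _ _ => Bool.rec true (Bool.rec true (Bool.rec true
      (Bool.rec true (frZ (Int.subNatNat s 16384) fun v => F (v :: acc))
      (Nat.ble (Nat.pow (Nat.add (Nat.sub s 16384) (Nat.sub 16384 s)) 2) b)) (tb m s))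
      (Nat.ble s hi)) (Nat.ble lo s)) L)
    (fun j ih L s b acc => SL.rec true (fun lo hi a q v t r => Bool.rec true (Bool.rec true
      (Bool.rec false r (Bool.rec true (Bool.rec true
        (ih (.cons lo hi a q v t) (Nat.sub s a) (Nat.sub b q) (v :: acc)) (Nat.ble q b)) (Nat.ble a s)))
      (Nat.ble s (Nat.mul (Nat.add j 2) hi))) (Nat.ble (Nat.mul (Nat.add j 2) lo) s)) L) k

theorem natAbs_sum_le {l : List ℤ} {d : ℕ} (h : ∀ v ∈ l, v.natAbs ≤ d) : l.sum.natAbs ≤ l.length * d := by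
  induction l with
  | nil => simp
  | cons a l ih =>
    have h1 := ih fun w hw => h w (mem_cons_of_mem _ hw)
    have h2 := h a mem_cons_self
    have := Int.natAbs_add_le a l.sum
    rw [sum_cons, length_cons, add_mul]
    omega

theorem sol_sound {m : ℕ} {F : List ℤ → Bool} (k : ℕ) : ∀ (L l acc : List ℤ) (s b : ℕ),
    L.Pairwise (fun a b => b.natAbs ≤ a.natAbs) → l.length = k + 1 →
    (∀ v ∈ l, v ∈ L ∧ tb m (v + 16384).toNat = true ∧ v.natAbs ≤ 16384) → sqSum l ≤ b →
    (s : ℤ) = l.sum + (k + 1) * 16384 → sol m F k (toSL L) s b acc = true →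
    ∃ l', l' ~ l ++ acc ∧ F l' = true := by
  have h0 : ∀ {v : ℤ} {L l : List ℤ} {s : ℕ}, (v :: L).Pairwise (fun a b => b.natAbs ≤ a.natAbs) →
      (∀ u ∈ l, u ∈ v :: L) → (s : ℤ) = l.sum + l.length * 16384 →
      Nat.ble (l.length * (16384 - v.natAbs)) s = true ∧ Nat.ble s (l.length * (16384 + v.natAbs)) = true :=
    fun {v L l s} a b c => by
      have := natAbs_sum_le (d := v.natAbs) fun u hu =>
        (mem_cons.1 (b u hu)).elim (· ▸ le_rfl) (rel_of_pairwise_cons a)
      rw [Nat.ble_eq, Nat.ble_eq, Nat.mul_sub, mul_add]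
      omega
  induction k with
  | zero =>
    intro L l acc s b h1 h2 h3 h4 h5 h
    obtain ⟨v, rfl⟩ := length_eq_one_iff.1 h2
    obtain ⟨h6, h7, h8⟩ := h3 v mem_cons_self
    obtain ⟨u, L, rfl⟩ := exists_cons_of_ne_nil (ne_nil_of_mem h6)
    obtain ⟨a1, a2⟩ := h0 (l := [v]) h1 (by simpa using h6) (s := s) (by simpa using h5)
    simp only [length_singleton, one_mul] at a1 a2
    simp only [sum_singleton, sqSum, map_cons, map_nil] at h4 h5
    have h9 := imp_of_rec (imp_of_rec (imp_of_rec (imp_of_rec h a1) a2)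
      (by rwa [show s = (v + 16384).toNat by omega])) (Nat.ble_eq_true_of_le (show
        (s - 16384 + (16384 - s)) ^ 2 ≤ b by rwa [show s - 16384 + (16384 - s) = v.natAbs by omega]))
    rw [frZ_eq, Int.subNatNat_eq_coe, show (s : ℤ) - (16384 : ℕ) = v by omega] at h9
    exact ⟨_, .refl _, h9⟩
  | succ k ih =>
    intro L l acc s b
    induction L with
    | nil =>
      intro _ h2 h3
      obtain ⟨v, hv⟩ := exists_mem_of_length_eq_add_one h2
      exact nomatch (h3 v hv).1
    | cons v L ih2 =>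
      intro h1 h2 h3 h4 h5 h
      obtain ⟨a1, a2⟩ := h0 h1 (fun u hu => (h3 u hu).1) (s := s) (by rw [h5, h2]; norm_cast)
      rw [h2] at a1 a2
      obtain ⟨h6, h7⟩ := and_of_rec (imp_of_rec (imp_of_rec h a1) a2)
      by_cases e : v ∈ l
      · have h8 := perm_cons_erase e
        have b1 := h8.length_eq
        have b2 := sqSum_perm h8
        have b3 := h8.sum_eq
        have b4 := natAbs_sum_le (l := l.erase v) fun u hu => (h3 u (mem_of_mem_erase hu)).2.2
        have b5 := (h3 v e).2.2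
        simp only [length_cons, sqSum, map_cons, sum_cons] at b1 b2 b3 h4
        rw [show (l.erase v).length = k + 1 by omega] at b4
        obtain ⟨l', h9, h10⟩ := ih (v :: L) (l.erase v) (v :: acc) (s - (v + 16384).toNat)
          (b - v.natAbs ^ 2) h1 (by omega) (fun u hu => h3 u (mem_of_mem_erase hu))
          (by unfold sqSum; omega) (by omega)
          (imp_of_rec (imp_of_rec h6 (Nat.ble_eq_true_of_le (by omega))) (Nat.ble_eq_true_of_le (by omega)))
        exact ⟨l', h9.trans (perm_middle.trans (h8.symm.append_right acc)), h10⟩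
      · exact ih2 h1.of_cons h2 (fun u hu => ⟨(mem_cons.1 (h3 u hu).1).resolve_left
          fun a => e (a ▸ hu), (h3 u hu).2⟩) h4 h5 h7

/-- the signed members congruent to `r` -/
noncomputable def sgn (p r : ℕ) (L : List ℕ) : List ℤ :=
  fm (fun d : ℕ => cond (Nat.beq (Nat.mod d p) r) [(d : ℤ)] [] ++
    cond (Nat.beq (Nat.mod (Nat.add d r) p) 0) [-(d : ℤ)] []) L

theorem mem_sgn {p r : ℕ} {L : List ℕ} {v : ℤ} (h : v.natAbs ∈ L) (h1 : r < p) (h2 : (p : ℤ) ∣ v - r) :
    v ∈ sgn p r L := by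
  rw [sgn, fm_eq]
  refine mem_flatMap.2 ⟨_, h, mem_append.2 ((Int.natAbs_eq v).imp (fun e => ?_) fun e => ?_)⟩
  · rw [beq_of (a := Nat.mod v.natAbs p) (b := r) (Eq.trans (Nat.modEq_iff_dvd.2 (e ▸ h2)).symm
      (Nat.mod_eq_of_lt h1))]
    exact mem_singleton.2 e
  · rw [beq_of (a := Nat.mod (Nat.add v.natAbs r) p) (b := 0) (Nat.mod_eq_zero_of_dvd (Int.natCast_dvd_natCast.1
      (dvd_neg.1 (h2.trans (dvd_of_eq (by change _ = -((v.natAbs + r : ℕ) : ℤ); omega))))))]
    exact mem_singleton.2 e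

theorem pairwise_sgn (p r : ℕ) {L : List ℕ} (h : L.Pairwise (· ≥ ·)) :
    (sgn p r L).Pairwise fun a b => b.natAbs ≤ a.natAbs := by
  have h1 : ∀ d : ℕ, ∀ v ∈ cond (Nat.beq (Nat.mod d p) r) [(d : ℤ)] [] ++
      cond (Nat.beq (Nat.mod (Nat.add d r) p) 0) [-(d : ℤ)] [], v.natAbs = d := fun d => by
    cases Nat.beq (Nat.mod d p) r <;> cases Nat.beq (Nat.mod (Nat.add d r) p) 0 <;> simp
  rw [sgn, fm_eq]
  exact pairwise_flatMap.2 ⟨fun d _ => pairwise_of_forall_mem_list fun a ha b hb =>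
    ((h1 d b hb).trans (h1 d a ha).symm).le, h.imp fun {a b} e x hx y hy => h1 a x hx ▸ h1 b y hy ▸ e⟩

noncomputable def cand1 (n : ℕ) (L : List ℕ) (p e m c : ℕ) (F : BD → Bool) : Bool :=
  Grp.forceL (fl (fun d => Nat.beq (Nat.mod (Nat.mul e m) d) 0 && (Nat.beq c 1 || Nat.ble (2 * p) d)) L)
    fun V => frL (sgn p 1 V) fun V1 => allR (fun w : ℤ => frZ w fun w =>
      force (1 + (p - 1) / e * w.natAbs ^ 2) fun y => Bool.rec true
        (frS (fl (fun v => e + 1 != p || w ≤ v) V1) fun S => force (mS S) fun ms => force (n - y) fun b =>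
          force (((e - 1) * 16384 : ℕ) - 1 - w).toNat fun s => force (e - 2) fun k =>
            sol ms (fun l => F (p, e, c, w, l)) k S s b []) (Nat.ble y n)) (sgn p (p - e) V)

/-- runs through the candidates for the principal `p`-block -/
noncomputable def candC (n : ℕ) (D L : List ℕ) (p : ℕ) (ok : ℕ → ℕ → Bool) (F : BD → Bool) : Bool :=
  allR (fun m => Bool.rec true (allR (fun e => Bool.rec true (force (n / (p * e * m)) fun c =>
    Bool.rec true (force e fun e => cand1 n L p e m c F) (ok e c && okDeg n m)) (Nat.beq (n % (p * e * m)) 0))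
      (fl (fun e => 2 ≤ e && (p - 1) % e == 0) (range p))) (Nat.beq (Nat.mod m p) 1)) D

theorem candC_sound {n p m e c : ℕ} {Z : Set ℕ} {D L : List ℕ} {w : ℤ} {l : List ℤ}
    {ok : ℕ → ℕ → Bool} {F : BD → Bool} (h : Cfg n Z p m e c w l) (h0 : n ≠ 0) (hn : n ≤ 16384 ^ 2)
    (hm : m ∈ D) (hL : L.Pairwise (· ≥ ·)) (h1 : ∀ v ∈ w :: l, v.natAbs ∈ L) (hc : ok e c = true)
    (hw : e + 1 = p → ∀ v ∈ l, w ≤ v) (hF : candC n D L p ok F = true) :
    ∃ l', l' ~ l ∧ F (p, e, c, w, l') = true := by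
  obtain ⟨r, h2, -⟩ := h.sq
  have h6 : p * e * m ≠ 0 := left_ne_zero_of_mul (h.card ▸ h0)
  have h7 : n / (p * e * m) = c := by rw [h.card, Nat.mul_div_cancel_left _ (Nat.pos_of_ne_zero h6)]
  have h8 := h.prime.two_le
  have h9 := Nat.le_of_dvd (by omega) h.dvd
  have h10 := h.two_le
  have h11 := h.len
  have a1 := imp_of_rec (allR_mem (imp_of_rec (allR_mem hF hm) (beq_of h.modm)) (a := e) (by
    simp [h10, Nat.mod_eq_zero_of_dvd h.dvd, show e < p by omega])) (beq_of (by simp [h.card]))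
  rw [force_eq, h7, hc, okDeg_of_dvd h.fact] at a1
  simp only [Bool.and_self, force_eq, cand1, Grp.forceL_eq, frL_eq, fl_eq] at a1
  generalize hV : L.filter _ = V at a1
  have a2 : ∀ v ∈ w :: l, v.natAbs ∈ V := fun v hv => by
    obtain ⟨h2, -, h4, -⟩ := h.deg v hv
    refine hV ▸ mem_filter.2 ⟨h1 v hv, ?_⟩
    rw [beq_of (a := Nat.mod (Nat.mul e m) _) (Nat.mod_eq_zero_of_dvd h2)]
    simpa using h4
  have a3 := allR_mem a1 (mem_sgn (a2 w mem_cons_self) (by omega) (by
    rw [Nat.cast_sub (by omega), ← sub_add, sub_add_eq_add_sub]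
    exact dvd_sub h.modw dvd_rfl))
  simp only [frZ_eq, force_eq, frS_eq] at a3
  have a4 : ∀ v ∈ l, v.natAbs ≤ 16384 := fun v hv => (Nat.pow_le_pow_iff_left two_ne_zero).1
    ((single_le_sum (fun _ _ => Nat.zero_le _) _ (mem_map_of_mem (f := fun v : ℤ => v.natAbs ^ 2) hv)).trans
      (show sqSum l ≤ _ by omega))
  have a5 := natAbs_sum_le a4
  have a6 := h.sum
  have a7 : ∀ v ∈ l, v ∈ (sgn p 1 V).filter fun v => e + 1 != p || w ≤ v := fun v hv => mem_filter.2
    ⟨mem_sgn (a2 v (mem_cons_of_mem _ hv)) h.prime.one_lt (h.modl v hv), by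
      simpa [or_iff_not_imp_left] using fun a => hw a v hv⟩
  obtain ⟨l', a8, a9⟩ := sol_sound (e - 2) _ l [] _ _ ((pairwise_sgn p 1 (hV ▸ hL.filter _)).filter _)
    (by omega) (fun v hv => ⟨a7 v hv, tb_mS (a7 v hv), a4 v hv⟩) (by omega) (by omega)
    (imp_of_rec a3 (Nat.ble_eq_true_of_le (by omega)))
  exact ⟨l', append_nil l ▸ a8, a9⟩

end Cfsg.Lib.MO24
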