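import Cfsg.Agent.Lib.MO24.Snd
import Cfsg.Agent.Lib.Small.Order

/-!
# Soundness of the searches with triples
-/

set_option autoImplicit false

namespace Cfsg.Lib.MO24

open List Cfsg.Lib.Golay Cfsg.Lib.MO Cfsg.Lib.Small

theorem beq_ne {a b : ℕ} (h : a ≠ b) : Nat.beq a b = false :=
  Bool.eq_false_iff.2 (mt Nat.eq_of_beq_eq_true h)

theorem mem_eq (x : ℕ) (l : List ℕ) : mem x l = true ↔ x ∈ l := by
  induction l with
  | nil => exact ⟨nofun, nofun⟩
  | cons a l ih =>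
    change (Bool.rec (mem x l) true (Nat.beq a x) : Bool) = true ↔ _
    by_cases e : a = x
    · simp [beq_of e, e]
    · rw [beq_ne e, mem_cons, ← ih, or_iff_right (Ne.symm e)]

theorem er_eq (x : ℕ) (l : List ℕ) : er x l = l.erase x := by
  induction l with
  | nil => rfl
  | cons a l ih =>
    change (Bool.rec (a :: er x l) l (Nat.beq a x) : List ℕ) = _
    by_cases e : a = x
    · simp [beq_of e, e]
    · rw [beq_ne e, ih, erase_cons_tail (by simpa)]

variable {ι : Type*} {d : ι → ℕ} {v : ι → ℤ} {tr : ι → List ι} {p t k kq T h b r : ℕ}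
  {dm : ℕ → List ℤ}

theorem exists_er {U : List ι} {a : ι} (h : a ∈ U) : ∃ V, a :: V ~ U ∧ V.map d = er (d a) (U.map d) := by
  obtain ⟨s, t, rfl⟩ := append_of_mem h
  obtain ⟨V, h1, h2⟩ := exists_list_of_perm (l := er (d a) ((s ++ a :: t).map d)) (f := d) (L := s ++ t) (by
    rw [er_eq]
    simpa using ((perm_middle (a := a) (l₁ := s) (l₂ := t)).map d).erase (d a))
  exact ⟨V, (h1.cons a).trans perm_middle.symm, h2⟩

theorem ers_sound {c : List ℕ → Bool} (T : List ι) : ∀ {U : List ι}, T.Nodup → T ⊆ U →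
    ers c (T.map d) (U.map d) = true → ∃ V, T ++ V ~ U ∧ c (V.map d) = true := by
  induction T with
  | nil => exact fun _ _ h => ⟨_, .refl _, h⟩
  | cons a T ih =>
    intro U h1 h2 h
    obtain ⟨V, h3, h4⟩ := exists_er (d := d) (h2 mem_cons_self)
    rw [nodup_cons] at h1
    obtain ⟨W, h5, h6⟩ := ih (U := V) h1.2 (fun b hb => (mem_cons.1 (h3.symm.subset
      (h2 (mem_cons_of_mem _ hb)))).resolve_left fun e => h1.1 (e ▸ hb))
      (h4 ▸ imp_of_rec h ((mem_eq _ _).2 (mem_map_of_mem (h2 mem_cons_self))))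
    exact ⟨W, (h5.cons a).trans h3, h6⟩

/-- the triples -/
structure Tr (d : ι → ℕ) (tr : ι → List ι) : Prop where
  mem : ∀ a, n9 (d a) → a ∈ tr a
  nd : ∀ a, n9 (d a) → (tr a).Nodup
  eq : ∀ a, n9 (d a) → ∀ b ∈ tr a, tr b = tr a
  deg : ∀ a, n9 (d a) → (tr a).map d ∈ [d a, d a, d a] :: TR

theorem Tr.n9 (hT : Tr d tr) {a b : ι} (h : n9 (d a)) (hb : b ∈ tr a) : n9 (d b) := by
  rcases mem_cons.1 (hT.deg a h) with e | e
  · have : d b ∈ [d a, d a, d a] := e ▸ mem_map_of_mem hb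
    rwa [show d b = d a by simpa using this]
  · exact (by decide : ∀ l ∈ TR, ∀ x ∈ l, MO24.n9 x) _ e _ (mem_map_of_mem hb)

theorem part_sound (hT : Tr d tr) (f : ℕ) : ∀ {U : List ι} {c}, U.Nodup → U.length < f →
    (∀ a ∈ U, n9 (d a) ∧ ¬ p ∣ d a ∧ ∀ b ∈ tr a, ¬ p ∣ d b → b ∈ U) → part p f (U.map d) c = true →
    ∃ P : List ι, c (P.map fun a => (tr a).map d) = true ∧ P.head? = U.head? ∧ P ⊆ U ∧
      (P.flatMap tr).Nodup ∧ U ⊆ P.flatMap tr := by
  induction f with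
  | zero => exact fun _ h => nomatch h
  | succ f ih =>
    rintro (_ | ⟨a, U⟩) c h1 h2 h3 h
    · exact ⟨[], h, rfl, Subset.refl _, nodup_nil, Subset.refl _⟩
    obtain ⟨a1, a2, a3⟩ := h3 a mem_cons_self
    change force (d a) (fun x => allR (fun t => ers (fun V => part p f V fun P => c (t :: P))
      (fl (fun x => !Nat.beq (Nat.mod x p) 0) t) (x :: U.map d)) (trs x)) = true at h
    rw [force_eq] at h
    replace h := allR_mem h (a := (tr a).map d) (mem_cons.2 ((mem_cons.1 (hT.deg a a1)).imp_right fun e => by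
      rw [fl_eq]; exact mem_filter.2 ⟨e, (mem_eq _ _).2 (mem_map_of_mem (hT.mem a a1))⟩))
    have e : ∀ b, ((fun x => !Nat.beq (Nat.mod x p) 0) ∘ d) b = true ↔ ¬ p ∣ d b := fun b => by
      rw [Nat.dvd_iff_mod_eq_zero, ← Nat.beq_eq, Bool.not_eq_true, ← Bool.not_eq_true']; rfl
    rw [fl_eq, filter_map, ← map_cons] at h
    obtain ⟨V, h4, h5⟩ := ers_sound _ ((hT.nd a a1).filter _)
      (fun b hb => a3 b (mem_filter.1 hb).1 ((e b).1 (mem_filter.1 hb).2)) h
    have h6 := nodup_append.1 (h4.nodup_iff.2 h1)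
    have h7 : ∀ b ∈ V, b ∈ a :: U := fun b hb => h4.subset (mem_append_right _ hb)
    have h8 : ∀ b ∈ V, b ∉ tr a := fun b hb c =>
      h6.2.2 b (mem_filter.2 ⟨c, (e b).2 (h3 b (h7 b hb)).2.1⟩) b hb rfl
    have h9 : ∀ b ∈ V, ∀ c ∈ tr b, c ∉ tr a := fun b hb c h h' => h8 b hb (hT.eq a a1 c h' ▸
      (hT.eq b (h3 b (h7 b hb)).1 c h).symm ▸ hT.mem b (h3 b (h7 b hb)).1)
    obtain ⟨P, b1, -, b2, b3, b4⟩ := ih h6.2.1 (by
      have := h4.length_eq
      have := length_pos_of_mem (mem_filter.2 ⟨hT.mem a a1, (e a).2 a2⟩)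
      rw [length_append] at *
      omega) (fun b hb => ⟨(h3 b (h7 b hb)).1, (h3 b (h7 b hb)).2.1, fun c h h' => (mem_append.1
        (h4.symm.subset ((h3 b (h7 b hb)).2.2 c h h'))).resolve_left fun x =>
          h9 b hb c h (mem_filter.1 x).1⟩) h5
    refine ⟨a :: P, b1, rfl, cons_subset.2 ⟨mem_cons_self, fun b hb => h7 b (b2 hb)⟩,
      nodup_append.2 ⟨hT.nd a a1, b3, fun x hx y hy e => ?_⟩, fun b hb => mem_append.2
        ((mem_append.1 (h4.symm.subset hb)).imp (fun x => (mem_filter.1 x).1) fun x => b4 x)⟩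
    obtain ⟨b, c1, c2⟩ := mem_flatMap.1 hy
    exact h9 b (b2 c1) y c2 (e ▸ hx)

theorem te_eq (k r x : ℕ) (l : List ℤ) : te k r x l = l.map fun u : ℤ => (u, (u + r).toNat, om k x u) := by
  suffices ∀ c, List.rec (motive := fun _ => (List TE → List TE) → List TE) (fun c => c [])
    (fun (u : ℤ) _ ih c => force (u + r).toNat fun o => force (om k x u) fun m =>
      ih fun L => c ((u, o, m) :: L)) l c = c (l.map fun u : ℤ => (u, (u + r).toNat, om k x u)) from this id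
  induction l with
  | nil => exact fun _ => rfl
  | cons a l ih => exact fun c => (force_eq _ _).trans ((force_eq _ _).trans (ih _))

theorem tb_mk3 {L : List TE} {a : TE} (h : a ∈ L) : tb (mk3 r L) (3 * (a.2.1 + r) + a.2.2) = true := by
  rw [tb_eq]
  induction L with
  | nil => cases h
  | cons b L ih =>
    change Nat.testBit (1 <<< (3 * (b.2.1 + r) + b.2.2) ||| mk3 r L) _ = true
    rcases mem_cons.1 h with rfl | h
    · simp [Nat.testBit_shiftLeft]
    · simp [ih h]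

def pl (p : ℕ) (d : ι → ℕ) (v : ι → ℤ) (a : ι) : PL := (wt p (d a), d a, v a)

/-- the values on a triple -/
def TV (k : ℕ) (d : ι → ℕ) (v : ι → ℤ) (l : List ι) : Prop := ∃ x y z, l = [x, y, z] ∧
  (d y = d x ∧ d z = d x ∧ v y = v x ∧ v z = v x ∨ d x ≠ d z ∧ v z = v x + v y ∧
    om k (d y) (v y) = om k (d x) (v x) ∧ om k (d z) (v z) = om k (d x) (v x))

theorem mem_tri {l : List ι} (h : TV k d v l) (h1 : ∀ a ∈ l, v a ∈ dm (d a) ∧ (v a).natAbs ≤ r) :
    l.map (pl p d v) ∈ tri p k r dm (l.map d) := by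
  obtain ⟨x, y, z, rfl, h⟩ := h
  simp only [forall_mem_cons] at h1
  obtain ⟨h1, h2, h3, -⟩ := h1
  simp only [map_cons, map_nil, tri, frZ_eq, force_eq, pl, fm_eq, mp_eq, fl_eq, te_eq]
  rcases h with ⟨a, b, c, e⟩ | ⟨a, b, c, e⟩
  · rw [a, b, c, e, beq_of rfl]
    exact mem_map_of_mem h1.1
  · rw [beq_ne a]
    refine mem_flatMap.2 ⟨_, mem_map_of_mem h1.1, mem_map.2 ⟨_, mem_filter.2 ⟨mem_map_of_mem h2.1, ?_⟩,
      by rw [b]; rfl⟩⟩
    have := tb_mk3 (r := r) (mem_map_of_mem (f := fun u : ℤ => (u, (u + r).toNat, om k (d z) u)) h3.1)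
    dsimp only at this ⊢
    rw [e, show (v z + r).toNat + r = (v x + r).toNat + (v y + r).toNat by omega] at this
    rw [c, beq_of rfl]
    exact this

noncomputable def mkS' (p t k r : ℕ) (dm : ℕ → List ℤ) (a0 : DV) : ℕ × List ℕ → List PP
  | (0, _) => [[(t, 1, 1)]]
  | (1, l) => (tri p k r dm l).filter (has a0)
  | (2, l) => tri p k r dm l
  | (m + 3, l) => (dm (l.headD 0)).map fun u => replicate (m + 1) (wt p (l.headD 0), l.headD 0, u)

theorem mkS_eq (a0 : DV) (a : ℕ × List ℕ) : mkS p t k kq r dm a0 a = item kq (mkS' p t k r dm a0 a) := by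
  obtain ⟨_ | _ | _ | m, l⟩ := a
  · rfl
  · exact congrArg (item kq) (fl_eq _ _)
  · rfl
  · simp only [mkS, mkS', force_eq, frZ_eq, it1, mp_eq, rp_eq]

theorem srch_sound (hT : Tr d tr) (hV : ∀ a, n9 (d a) → TV k d v (tr a)) {o a0 : ι} {Y : List (ι × ι)}
    {L : List ι} (h1 : pl p d v o = ((t : ℤ), 1, 1)) (h2 : ∀ y ∈ Y, d y.2 = d y.1 ∧ v y.2 = v y.1)
    (h3 : (o :: (Y.map (·.1) ++ (Y.map (·.2) ++ L))).Nodup)
    (h4 : ∀ a, ¬ p ∣ d a ↔ a ∈ o :: (Y.map (·.1) ++ (Y.map (·.2) ++ L)))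
    (h5 : 2 * Y.length + L.length ≤ 12) (h6 : ∀ a, a ≠ o → v a ∈ dm (d a) ∧ (v a).natAbs ≤ r)
    (h7 : n9 (d a0) ∧ ¬ p ∣ d a0)
    (h8 : ∀ Λ : List ι, Λ.Nodup → (∀ a, ¬ p ∣ d a → a ∈ Λ) → (∀ a ∈ Λ, ¬ p ∣ d a ∨ n9 (d a)) →
      sj 0 0 (Λ.map (pl p d v)) = 0 ∧ s2 kq (Λ.map (pl p d v)) = T ∧ sy (Λ.map (pl p d v)) ≤ b ∧
        ∀ j, ((t * h : ℕ) : ℤ) ∣ sj k j (Λ.map (pl p d v))) {F : PP → Bool}
    (H : srch p t k kq T h b r dm (d a0, v a0) (Y.map fun y => d y.1) (L.map d) F = true) :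
    ∃ Λ : List ι, Λ.Nodup ∧ (∀ a, ¬ p ∣ d a → a ∈ Λ) ∧ F (Λ.map (pl p d v)) = true := by
  have o1 : d o = 1 := congrArg (·.2.1) h1
  have o2 : ∀ a, n9 (d a) → a ≠ o := fun a h e => by rw [e, o1] at h; cases h
  generalize hN : Y.map (·.1) ++ (Y.map (·.2) ++ L) = N at h3 h4
  have e1 : (Y.map fun y => d y.1) ++ ((Y.map fun y => d y.1) ++ L.map d) = N.map d := by
    rw [← hN, map_append, map_append, map_map, map_map,
      map_congr_left (f := d ∘ fun y : ι × ι => y.2) (g := fun y => d y.1) fun y hy => (h2 y hy).1]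
    rfl
  have a1 : ∀ a, a ∈ N.filter (n9 ∘ d) ↔ n9 (d a) ∧ ¬ p ∣ d a := fun a => by
    rw [mem_filter, h4, mem_cons, and_comm]
    exact and_congr_right fun e => (or_iff_right (o2 a e)).symm
  obtain ⟨U, a2, a3⟩ := exists_er (d := d) ((a1 a0).2 h7)
  rw [srch, e1, fl_eq, filter_map, ← a3] at H
  obtain ⟨P, b1, b2, b3, b4, b5⟩ := part_sound hT 13 (U := a0 :: U) (a2.nodup_iff.2 (h3.of_cons.filter _)) (by
    have := length_filter_le (n9 ∘ d) N
    rw [← a2.length_eq, ← hN] at this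
    simp only [length_append, length_map] at this
    omega) (fun a ha => ⟨((a1 a).1 (a2.subset ha)).1, ((a1 a).1 (a2.subset ha)).2, fun b hb c =>
      a2.symm.subset ((a1 b).2 ⟨hT.n9 ((a1 a).1 (a2.subset ha)).1 hb, c⟩)⟩) H
  obtain ⟨P, rfl⟩ : ∃ Q, P = a0 :: Q := ⟨P.tail, (cons_head?_tail b2).symm⟩
  have b6 : ∀ a ∈ a0 :: P, n9 (d a) := fun a ha => ((a1 a).1 (a2.subset (b3 ha))).1
  have b7 : ∀ a ∈ (a0 :: P).flatMap tr, n9 (d a) := forall_mem_flatMap.2 fun a ha b => hT.n9 (b6 a ha)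
  have b8 : ∀ a ∈ a0 :: P, (tr a).map (pl p d v) ∈ tri p k r dm ((tr a).map d) := fun a ha =>
    mem_tri (hV a (b6 a ha)) fun b hb => h6 b (o2 b (hT.n9 (b6 a ha) hb))
  have c0 : ∀ a ∈ N, v a ∈ dm (d a) := fun a ha => (h6 a fun e => (nodup_cons.1 h3).1 (e ▸ ha)).1
  have c1 : (o :: ((a0 :: P).flatMap tr ++ N.filter fun a => !n9 (d a))).Nodup := nodup_cons.2
    ⟨fun e => (mem_append.1 e).elim (fun e => o2 o (b7 o e) rfl) fun e => (nodup_cons.1 h3).1
      (mem_filter.1 e).1, nodup_append.2 ⟨b4, h3.of_cons.filter _, fun a ha b hb e => by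
        simpa [← e, b7 a ha] using (mem_filter.1 hb).2⟩⟩
  have c2 : ∀ a, ¬ p ∣ d a → a ∈ o :: ((a0 :: P).flatMap tr ++ N.filter fun a => !n9 (d a)) :=
    fun a ha => mem_cons.2 ((mem_cons.1 ((h4 a).1 ha)).imp_right fun e => mem_append.2 (by
      cases e' : n9 (d a)
      · exact .inr (mem_filter.2 ⟨e, by simp [e']⟩)
      · exact .inl (b5 (a2.symm.subset ((a1 a).2 ⟨e', ha⟩)))))
  obtain ⟨c3, c4, c5, c6⟩ := h8 _ c1 c2 (forall_mem_cons.2 ⟨.inl ((h4 o).2 mem_cons_self), fun a ha =>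
    (mem_append.1 ha).symm.imp (fun e => (h4 a).2 (mem_cons_of_mem _ (mem_filter.1 e).1)) (b7 a)⟩)
  obtain ⟨R, hR⟩ : ∃ R : List ((ℕ × List ℕ) × PP), R = ((0, []), [((t : ℤ), 1, 1)]) ::
    ((1, (tr a0).map d), (tr a0).map (pl p d v)) :: (P.map (fun a => ((2, (tr a).map d), (tr a).map (pl p d v))) ++
      ((Y.filter fun y => !n9 (d y.1)).map (fun y => ((4, [d y.1]), [pl p d v y.1, pl p d v y.1])) ++
        (L.filter fun a => !n9 (d a)).map fun a => ((3, [d a]), [pl p d v a]))) := ⟨_, rfl⟩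
  have e2 : R.flatMap (·.2) ~ (o :: ((a0 :: P).flatMap tr ++ N.filter fun a => !n9 (d a))).map (pl p d v) := by
    simp only [hR, ← hN, flatMap_cons, flatMap_append, flatMap_map, map_cons, map_append, filter_append, h1,
      map_flatMap, cons_append, nil_append, append_assoc, ← map_eq_flatMap, filter_map, map_map]
    refine .cons _ (.append_left _ (.append_left _ ?_))
    rw [← append_assoc]
    refine .append_right _ ?_
    rw [filter_congr (p := _ ∘ fun y : ι × ι => y.2) (q := fun y => !n9 (d y.1)) fun y hy => by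
      simp [(h2 y hy).1], map_congr_left (f := pl p d v ∘ fun y : ι × ι => y.2) (g := fun y => pl p d v y.1)
        fun y hy => by simp [pl, h2 y (mem_filter.1 hy).1]]
    exact ((flatMap_append_perm _ (fun y : ι × ι => [pl p d v y.1]) fun y => [pl p d v y.1]).symm).trans
      (by simp [← map_eq_flatMap, Function.comp_def])
  obtain ⟨S, d1, d2⟩ := search_sound _ (mkS_eq _) R (f := 0) (.of_eq (by
      simp [hR, Function.comp_def, filter_map])) (by
      simp only [hR, forall_mem_cons, forall_mem_append, forall_mem_map]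
      exact ⟨mem_singleton_self _, mem_filter.2 ⟨b8 a0 mem_cons_self, any_eq_true.2 ⟨_, mem_map_of_mem
        (hT.mem a0 h7.1), beq_self_eq_true _⟩⟩, fun a ha => b8 a (mem_cons_of_mem _ ha), fun y hy =>
        mem_map_of_mem (c0 _ (hN ▸ mem_append_left _ (mem_map_of_mem (mem_filter.1 hy).1))), fun a ha =>
        mem_map_of_mem (c0 _ (hN ▸ mem_append_right _ (mem_append_right _ (mem_filter.1 ha).1)))⟩)
    (sj_perm e2 ▸ c3) (by rw [s2_perm e2, c4]; rfl) le_rfl dvd_rfl (sy_perm e2 ▸ c5) b1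
  replace d1 := d1.trans e2
  have d3 := fun j => cg_of (c := 1) d1 ((c6 j).mul_left _)
  obtain ⟨Λ, d4, rfl⟩ := exists_list_of_perm d1
  exact ⟨Λ, d4.nodup_iff.2 c1, fun a ha => d4.symm.subset (c2 a ha), by simpa [d3] using d2⟩

end Cfsg.Lib.MO24
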