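import Cfsg.Agent.Lib.MO24.Data

/-!
# The searches for the divisors of `244823040`
-/

set_option autoImplicit false
set_option maxRecDepth 100000

namespace Cfsg.Lib.MO24

open List Cfsg.Lib.Golay Cfsg.Lib.MO Cfsg.Lib.Small

noncomputable def dvs (n : ℕ) : List ℕ := fl (fun d => Nat.beq (Nat.mod n d) 0) DN

noncomputable def rn (p : ℕ) (o : ℕ → Bool) (ok : ℕ → ℕ → Bool) (M : ℕ) (fx : ℕ → ℕ) (kc : ℕ → Bool)
    (F : BD → ℕ → PP → Bool) (n : ℕ) : Bool :=
  Grp.forceL (dvs n) fun D => runB n D (DL fun d => Nat.beq (Nat.mod n d) 0 && o d) p ok M fx kc F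

def e22 (d : ℕ) : Bool := d % 23 == 0 || d % 23 == 1 || d % 23 == 22

theorem rdA : allR (fun n => !(n % 23 == 0 && (n / 23 % 23 == 2 || n / 23 % 23 == 11) && n != 10200960 &&
    n != 244823040) || rn 23 (fun d => 12144 % n == 0 || 11 < d) (fun _ c => c == 1) 4 (fun _ => 244823040)
      (fun k => k % 2 == 1 && k % 23 == 0) (fun _ _ _ => n == 6072 || n == 45540) n) DN = true := by
  decide +kernel

theorem rdB : allR (fun n => !(n % 23 == 0 && n / 23 % 23 == 22) ||
    rn 11 e22 (fun _ c => c % 2 == 0 && c % 23 != 0 && c % 7 != 0) 44 (fun d => (d + 22) / 23)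
      (fun k => k % 11 != 0 && k % 23 == 0) (fun _ _ _ => false) n &&
    rn 7 e22 (fun _ c => c % 11 == 0 && c % 23 != 0) 4 (fun d => (d + 22) / 23)
      (fun k => k % 11 != 0 && k % 23 == 0) (fun _ _ _ => false) n) DN = true := by
  decide +kernel

theorem rdC : allR (fun n => !(n % 11 == 0 && 443520 % n == 0 && n != 443520) ||
    rn 11 (fun _ => true) (fun e c => e != 10 || c % 7 != 0) 4 (fun _ => 244823040) (· % 2 == 1)
      (fun X _ _ => X.2.2.1 == 1 && [660, 7920, 15840, 4620, 36960, 73920].contains n) n &&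
    candC n (dvs n) (DL fun d => Nat.beq (Nat.mod n d) 0 && true) 11 (fun e c => e == 10 && c % 7 == 0)
      fun X => X.2.2.2.2.contains 45 && 28 % X.2.2.1 == 0) DN = true := by
  decide +kernel

theorem rdD : allR (rn 7 (fun _ => true) (fun _ c => c % 11 != 0) 4 (fun _ => 244823040)
    (fun k => k % 2 == 1 && k % 11 == 0) fun _ _ _ => false) [4620, 36960, 73920] = true := by
  decide +kernel

theorem rdE : (∀ d ∈ DN, 46 ≤ d → 244823040 % (d + 1) = 0 → d % 23 ≠ 1 ∧ d % 23 ≠ 21) ∧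
    (∀ m ∈ DN, m % 23 = 1 → 244823040 % (253 * m) = 0 → ∀ d ∈ divs 102 10395, 11 * m % d = 0 → 46 ≤ d →
      o23 d = true → m = 967680 ∨ d ≤ 495 ∧ d % 11 = 0 ∧ 13824 * (253 * m) % 244823040 = 0) ∧
    (∀ d ∈ divs 118 13824, IsPrimePow d → d % 11 ≠ 1) ∧ ∀ d ∈ DN, d % 23 = 1 → ¬ IsPrimePow d :=
  ⟨by decide +kernel, by decide +kernel, by decide +kernel, by decide +kernel⟩

end Cfsg.Lib.MO24
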