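import Cfsg.Agent.Lib.MO.Engine

/-!
# A search through the values of characters with linear and quadratic constraints
-/

set_option autoImplicit false

namespace Cfsg.Lib.MO24

open List Cfsg.Lib.Golay Cfsg.Lib.MO

/-- weight, degree, value -/
abbrev PL := ℤ × ℕ × ℤ

abbrev PP := List PL

def sj (k j : ℕ) (v : PP) : ℤ := (v.map fun a => a.1 * a.2.2 * ((k : ℤ) * a.2.2 / a.2.1) ^ j).sum

def s2 (k : ℕ) (v : PP) : ℤ :=
  (v.map fun a : PL => a.1 * ((k * a.2.2.natAbs ^ 2 / a.2.1 : ℕ) : ℤ)).sum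

def sy (v : PP) : ℕ := (v.map fun a => a.2.2.natAbs ^ 2).sum

structure NO where
  s : ℕ
  q : ℕ
  y : ℕ
  v : PP

structure An where
  g0 : ℕ
  r0 : ℕ
  sm : ℕ
  g1 : ℕ
  r1 : ℕ
  off : ℕ
  rp : ℕ
  rn : ℕ
  so : ℕ

inductive OL where
  | nil : OL
  | cons (s q y : ℕ) (v : PP) (t : OL) : OL

def toOL : List NO → OL
  | [] => .nil
  | o :: t => .cons o.s o.q o.y o.v (toOL t)

abbrev Go := OL → ℕ → ℕ → ℕ → PP → Bool

theorem rec_mem {f : ℕ → ℕ → ℕ → PP → OL → Bool} {l t : List NO} {o : NO}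
    (h : (OL.rec true (fun s q y v t r => Bool.rec false r (f s q y v t)) (toOL l) : Bool) = true)
    (ho : o :: t <:+ l) : f o.s o.q o.y o.v (toOL t) = true := by
  induction l with
  | nil => simp at ho
  | cons b l ih =>
    simp only [toOL] at h
    cases e : f b.s b.q b.y b.v (toOL l) <;> rw [e] at h
    · cases h
    · rcases suffix_cons_iff.1 ho with h1 | h1
      · cases h1; exact e
      · exact ih h h1

noncomputable def term (W : ℕ) (fin : ℕ → PP → Bool) : Go := fun _ rs rq _ acc =>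
  Bool.rec true (Bool.rec true (fin rq acc) (Nat.ble rq W)) (Nat.beq rs 0)

noncomputable def stpN (no : OL) (g : Go) : Go := fun l rs rq b acc =>
  OL.rec true (fun s q y v _ r => Bool.rec false r (Bool.rec true (Bool.rec true (Bool.rec true
    (g no (Nat.sub rs s) (Nat.sub rq q) (Nat.sub b y) (List.append v acc))
    (Nat.ble q rq)) (Nat.ble s rs)) (Nat.ble y b))) l

noncomputable def stpS (g : Go) : Go := fun l rs rq b acc =>
  OL.rec true (fun s q y v t r => Bool.rec false r (Bool.rec true (Bool.rec true (Bool.rec true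
    (g (.cons s q y v t) (Nat.sub rs s) (Nat.sub rq q) (Nat.sub b y) (List.append v acc))
    (Nat.ble q rq)) (Nat.ble s rs)) (Nat.ble y b))) l

noncomputable def tst (g0 r0 sm g1 r1 hi lo rp rn : ℕ) (g : Go) : Go := fun l rs rq b acc =>
  Bool.rec true (Bool.rec true (Bool.rec true (Bool.rec true (Bool.rec true (g l rs rq b acc)
    (Nat.ble lo (Nat.add rq (Nat.mul rn b)))) (Nat.ble rq (Nat.add hi (Nat.mul rp b))))
    (Nat.beq (Nat.mod rq g1) r1)) (Nat.ble rs sm)) (Nat.beq (Nat.mod rs g0) r0)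

noncomputable def msk (P : ℕ) (L : OL) : ℕ :=
  OL.rec 0 (fun s q _ _ _ ih => Nat.lor (Nat.shiftLeft 1 (Nat.add (Nat.mul s P) (Nat.mod q P))) ih) L

def tb (m d : ℕ) : Bool := Nat.beq (Nat.land 1 (Nat.shiftRight m d)) 1

theorem tb_eq (m d : ℕ) : tb m d = m.testBit d := by
  change Nat.beq (1 &&& (m >>> d)) 1 = (1 &&& (m >>> d) != 0)
  rw [Nat.one_and_eq_mod_two]
  rcases Nat.mod_two_eq_zero_or_one (m >>> d) with h | h <;> rw [h] <;> rfl

theorem tb_msk {P : ℕ} {L : List NO} {o : NO} (h : o ∈ L) :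
    tb (msk P (toOL L)) (o.s * P + o.q % P) = true := by
  rw [tb_eq]
  induction L with
  | nil => cases h
  | cons a L ih =>
    change Nat.testBit (1 <<< (a.s * P + a.q % P) ||| msk P (toOL L)) _ = true
    rcases mem_cons.1 h with rfl | h
    · simp [Nat.testBit_shiftLeft]
    · simp [ih h]

noncomputable def tstM (P m : ℕ) (g : Go) : Go := fun l rs rq b acc =>
  Bool.rec true (g l rs rq b acc)
    (Nat.beq (Nat.land 1 (Nat.shiftRight m (Nat.add (Nat.mul rs P) (Nat.mod rq P)))) 1)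

def ss (O : List NO) : ℕ := (O.map (·.s)).sum
def sq (O : List NO) : ℕ := (O.map (·.q)).sum
def sb (O : List NO) : ℕ := (O.map (·.y)).sum

structure Inv (M : ℕ) (A : An) (O : List NO) : Prop where
  h0 : ss O % A.g0 = A.r0
  sm : ss O ≤ A.sm
  h1 : sq O % A.g1 = A.r1
  d1 : A.g1 ∣ M
  hi : sq O ≤ A.off + A.rp * sb O
  lo : A.off ≤ sq O + A.rn * sb O

theorem beq_of {a b : ℕ} (h : a = b) : Nat.beq a b = true := h ▸ Nat.beq_refl a

/-- `g` reaches the choice `O` from the list `l` -/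
def Re (f : ℕ) (fin : ℕ → PP → Bool) (g : Go) (l : OL) (O : List NO) : Prop :=
  ∀ b acc, sb O ≤ b → g l (ss O) (sq O + f) b acc = true →
    ∃ S, S ~ O.flatMap (·.v) ++ acc ∧ fin f S = true

variable {W M f : ℕ} {fin : ℕ → PP → Bool} {g : Go} {l : OL} {O L t : List NO} {o : NO}

theorem Re.tst {a : An} (h : Inv M a O) (h1 : f ≤ W) (h2 : M ∣ f) (h3 : Re f fin g l O) :
    Re f fin (tst a.g0 a.r0 a.sm a.g1 a.r1 (W + a.off) a.off a.rp a.rn g) l O := fun b acc hb h4 => by
  obtain ⟨a1, a2, a3, a4, a5, a6⟩ := h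
  have b1 := Nat.mul_le_mul_left a.rp hb
  have b2 := Nat.mul_le_mul_left a.rn hb
  have c1 : Nat.beq (Nat.mod (ss O) a.g0) a.r0 = true := beq_of a1
  have c2 : Nat.beq (Nat.mod (sq O + f) a.g1) a.r1 = true := beq_of (by
    obtain ⟨u, rfl⟩ := a4.trans h2
    exact (Nat.add_mul_mod_self_left _ _ _).trans a3)
  have c3 : Nat.ble (sq O + f) (Nat.add (W + a.off) (Nat.mul a.rp b)) = true :=
    Nat.ble_eq_true_of_le (show _ ≤ W + a.off + a.rp * b by omega)
  have c4 : Nat.ble a.off (Nat.add (sq O + f) (Nat.mul a.rn b)) = true :=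
    Nat.ble_eq_true_of_le (show _ ≤ sq O + f + a.rn * b by omega)
  simp only [MO24.tst, c1, c2, c3, c4, Nat.ble_eq_true_of_le a2] at h4
  exact h3 b acc hb h4

theorem Re.tstM {P : ℕ} (h : o ∈ L) (h2 : P ∣ f) (h3 : Re f fin g l [o]) :
    Re f fin (tstM P (msk P (toOL L)) g) l [o] := fun b acc hb h4 => by
  have c : Nat.beq (Nat.land 1 (Nat.shiftRight (msk P (toOL L))
      (Nat.add (Nat.mul (ss [o]) P) (Nat.mod (sq [o] + f) P)))) 1 = true := by
    obtain ⟨u, rfl⟩ := h2
    have e : ss [o] * P + (sq [o] + P * u) % P = o.s * P + o.q % P := by simp [ss, sq]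
    exact (congrArg (tb _) e).trans (tb_msk h)
  simp only [MO24.tstM, c] at h4
  exact h3 b acc hb h4

theorem Re.term (h1 : f ≤ W) : Re f fin (term W fin) l [] := fun b acc _ h => by
  change (Bool.rec true (fin (0 + f) acc) (Nat.ble (0 + f) W) : Bool) = true at h
  rw [zero_add, Nat.ble_eq_true_of_le h1] at h
  exact ⟨acc, .refl _, h⟩

theorem Re.aux (h : Re f fin g l O) {b : ℕ} {acc : PP} (hb : sb (o :: O) ≤ b)
    (h1 : (Bool.rec true (Bool.rec true (Bool.rec true (g l (Nat.sub (ss (o :: O)) o.s)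
      (Nat.sub (sq (o :: O) + f) o.q) (Nat.sub b o.y) (List.append o.v acc))
      (Nat.ble o.q (sq (o :: O) + f))) (Nat.ble o.s (ss (o :: O)))) (Nat.ble o.y b) : Bool) = true) :
    ∃ S, S ~ (o :: O).flatMap (·.v) ++ acc ∧ fin f S = true := by
  have e1 : ss (o :: O) = o.s + ss O := by simp [ss]
  have e2 : sq (o :: O) = o.q + sq O := by simp [sq]
  have e3 : sb (o :: O) = o.y + sb O := by simp [sb]
  rw [e3] at hb
  have e4 : Nat.sub (o.s + ss O) o.s = ss O := Nat.add_sub_cancel_left ..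
  have e5 : Nat.sub (o.q + sq O + f) o.q = sq O + f := by rw [Nat.sub_eq]; omega
  rw [e1, e2, e4, e5, Nat.ble_eq_true_of_le (le_self_add.trans hb), Nat.ble_eq_true_of_le le_self_add,
    Nat.ble_eq_true_of_le (show o.q ≤ _ by omega)] at h1
  obtain ⟨S, h8, h9⟩ := h _ _ (show _ ≤ b - o.y by omega) h1
  refine ⟨S, h8.trans ?_, h9⟩
  rw [flatMap_cons, append_eq, ← append_assoc]
  exact perm_append_comm.append_right _

theorem Re.stpN (h : Re f fin g l O) (ho : o :: t <:+ L) : Re f fin (stpN l g) (toOL L) (o :: O) :=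
  fun _ _ hb h1 => by
    have h2 := rec_mem (by unfold MO24.stpN at h1; exact h1) ho
    exact h.aux hb h2

theorem Re.stpS (h : Re f fin g (toOL (o :: t)) O) (ho : o :: t <:+ L) :
    Re f fin (stpS g) (toOL L) (o :: O) :=
  fun _ _ hb h1 => by
    have h2 := rec_mem (by unfold MO24.stpS at h1; exact h1) ho
    exact h.aux hb h2

/-! ### Preparing the items -/

abbrev RO := ℤ × ℤ × ℕ × PP

def ro (k : ℕ) (v : PP) : RO := (sj 0 0 v, s2 k v, sy v, v)

/-- the options of an item with their statistics -/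
structure IT where
  m : ℕ
  so : ℕ
  qo : ℕ
  s : ℕ
  q : ℕ
  g0 : ℕ
  sm : ℕ
  g1 : ℕ
  rp : ℕ
  rn : ℕ
  O : OL

noncomputable def ro3 (k : ℕ) (v : PP) : (ℤ → ℤ → ℕ → IT) → IT :=
  List.rec (motive := fun _ => (ℤ → ℤ → ℕ → IT) → IT) (fun c => c 0 0 0)
    (fun a _ ih c => Prod.rec (fun w a => Prod.rec (fun d x => ih fun s q y => c (Int.add (Int.mul w x) s)
      (Int.add (Int.mul w (Int.ofNat (Nat.div (Nat.mul k (Nat.pow x.natAbs 2)) d))) q)
      (Nat.add (Nat.pow x.natAbs 2) y)) a) a) v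

theorem ro3_eq (k : ℕ) (v : PP) (c : ℤ → ℤ → ℕ → IT) : ro3 k v c = c (sj 0 0 v) (s2 k v) (sy v) := by
  induction v generalizing c with
  | nil => rfl
  | cons a v ih =>
    obtain ⟨w, d, x⟩ := a
    change ro3 k v (fun s q y => c (w * x + s) (w * (k * x.natAbs ^ 2 / d : ℕ) + q)
      (x.natAbs ^ 2 + y)) = _
    simp [ih, sj, sy, s2]

noncomputable def frR (k : ℕ) (l : List PP) : (List RO → ℕ → IT) → IT :=
  List.rec (motive := fun _ => (List RO → ℕ → IT) → IT) (fun c => c [] 0)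
    (fun v _ ih c => ro3 k v fun s q y => frZ s fun s => frZ q fun q => force y fun y =>
      ih fun L m => c ((s, q, y, v) :: L) (Nat.succ m)) l

theorem frR_eq (k : ℕ) (l : List PP) (c : List RO → ℕ → IT) :
    frR k l c = c (l.map (ro k)) l.length := by
  induction l generalizing c with
  | nil => rfl
  | cons v l ih =>
    change ro3 k v (fun s q y => frZ s fun s => frZ q fun q => force y fun y =>
      frR k l fun L m => c ((s, q, y, v) :: L) (Nat.succ m)) = _
    simp only [ro3_eq, frZ_eq, force_eq, ih]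
    rfl

def nrm (so qo : ℕ) (o : RO) : NO := ⟨(o.1 + so).toNat, (o.2.1 + qo).toNat, o.2.2.1, o.2.2.2⟩

noncomputable def frN (so qo : ℕ) (l : List RO) : (OL → IT) → IT :=
  List.rec (motive := fun _ => (OL → IT) → IT) (fun c => c .nil)
    (fun (o : RO) _ ih c => Prod.rec (fun s o => Prod.rec (fun q o => Prod.rec (fun y v =>
      force (Int.add s so).toNat fun s => force (Int.add q qo).toNat fun q =>
      ih fun K => c (.cons s q y v K)) o) o) o) l

theorem frN_eq (so qo : ℕ) (l : List RO) (c : OL → IT) :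
    frN so qo l c = c (toOL (l.map (nrm so qo))) := by
  induction l generalizing c with
  | nil => rfl
  | cons v l ih =>
    obtain ⟨s, q, y, v⟩ := v
    change force _ (fun s => force _ fun q => frN so qo l fun K => c (.cons s q y v K)) = _
    simp only [force_eq, ih]
    rfl

noncomputable def mx (f : RO → ℤ) (l : List RO) : ℕ :=
  List.rec 0 (fun a _ ih => Nat.add (Nat.sub (Int.neg (f a)).toNat ih) ih) l

theorem le_mx (f : RO → ℤ) {l : List RO} {a : RO} (h : a ∈ l) : 0 ≤ f a + mx f l := by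
  induction l with
  | nil => cases h
  | cons b l ih =>
    have e : mx f (b :: l) = (-f b).toNat - mx f l + mx f l := rfl
    rcases mem_cons.1 h with rfl | h
    · omega
    · have := ih h
      omega

noncomputable def mo (f : ℕ → ℕ → ℕ → ℕ) (l : OL) : ℕ :=
  OL.rec 0 (fun s q y _ _ ih => Nat.add (Nat.sub (f s q y) ih) ih) l

theorem le_mo (f : ℕ → ℕ → ℕ → ℕ) {l : List NO} : ∀ a ∈ l, f a.s a.q a.y ≤ mo f (toOL l) := by
  induction l with
  | nil => exact nofun
  | cons b l ih =>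
    have e : mo f (toOL (b :: l)) = f b.s b.q b.y - mo f (toOL l) + mo f (toOL l) := rfl
    exact forall_mem_cons.2 ⟨by omega, fun a h => by have := ih a h; omega⟩

noncomputable def gc (f : ℕ → ℕ → ℕ) (x : ℕ) (l : OL) : ℕ :=
  OL.rec 0 (fun s q _ _ _ ih => Nat.gcd (Nat.add (Nat.sub (f s q) x) (Nat.sub x (f s q))) ih) l

theorem gc_dvd (f : ℕ → ℕ → ℕ) (x : ℕ) {l : List NO} :
    ∀ a ∈ l, f a.s a.q ≡ x [MOD gc f x (toOL l)] := by
  induction l with
  | nil => exact nofun
  | cons b l ih =>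
    have h1 : gc f x (toOL (b :: l)) ∣ gc f x (toOL l) := Nat.gcd_dvd_right _ _
    have h2 : gc f x (toOL (b :: l)) ∣ f b.s b.q - x + (x - f b.s b.q) := Nat.gcd_dvd_left _ _
    refine forall_mem_cons.2 ⟨?_, fun a h => (ih a h).of_dvd h1⟩
    rcases le_total (f b.s b.q) x with h | h
    · exact (Nat.modEq_iff_dvd' h).2 (by rwa [Nat.sub_eq_zero_of_le h, zero_add] at h2)
    · exact ((Nat.modEq_iff_dvd' h).2 (by rwa [Nat.sub_eq_zero_of_le h, add_zero] at h2)).symm

noncomputable def hd (f : ℕ → ℕ → ℕ) (l : OL) : ℕ := OL.rec 0 (fun s q _ _ _ _ => f s q) l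

noncomputable def item0 (k : ℕ) (l : List PP) : IT :=
  frR k l fun R m => force m fun m => force (mx (·.1) R) fun so => force (mx (·.2.1) R) fun qo =>
    frN so qo R fun O => force (hd (fun s _ => s) O) fun s => force (hd (fun _ q => q) O) fun q =>
    force (gc (fun s _ => s) s O) fun g0 => force (mo (fun s _ _ => s) O) fun sm =>
    force (gc (fun _ q => q) q O) fun g1 =>
    force (mo (fun _ q y => Nat.div (Nat.pred (Nat.add (Nat.sub q qo) y)) y) O) fun rp =>
    force (mo (fun _ q y => Nat.div (Nat.pred (Nat.add (Nat.sub qo q) y)) y) O) fun rn =>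
    ⟨m, so, qo, s, q, g0, sm, g1, rp, rn, O⟩

/-- evaluated once for given arguments -/
noncomputable def item (k : ℕ) (l : List PP) : IT := IT.rec IT.mk (item0 k l)

noncomputable def op (k : ℕ) (l : List PP) (v : PP) : NO := nrm (item k l).so (item k l).qo (ro k v)

theorem le_cdiv {x y : ℕ} (h : y = 0 → x = 0) : x ≤ (x + y - 1) / y * y := by
  rcases Nat.eq_zero_or_pos y with e | e
  · rw [h e]; exact Nat.zero_le _
  · have := Nat.lt_div_mul_add (a := x + y - 1) e
    omega

theorem s2_zero {k : ℕ} {v : PP} (h : sy v = 0) : s2 k v = 0 := by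
  simp only [sy, sum_eq_zero_iff, mem_map, forall_exists_index, and_imp, forall_apply_eq_imp_iff₂] at h
  exact sum_eq_zero (forall_mem_map.2 fun a ha => by simp [h a ha])

structure Ok (I : IT) (o : NO) : Prop where
  h0 : o.s ≡ I.s [MOD I.g0]
  sm : o.s ≤ I.sm
  h1 : o.q ≡ I.q [MOD I.g1]
  hi : o.q ≤ I.qo + I.rp * o.y
  lo : I.qo ≤ o.q + I.rn * o.y

theorem item_spec (k : ℕ) (l : List PP) : (item k l).m = l.length ∧
    (item k l).O = toOL (l.map (op k l)) ∧ ∀ v ∈ l, ((op k l v).s : ℤ) = sj 0 0 v + (item k l).so ∧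
      ((op k l v).q : ℤ) = s2 k v + (item k l).qo ∧ Ok (item k l) (op k l v) := by
  have e : item k l = item0 k l := rfl
  simp only [item0, frR_eq, force_eq, frN_eq, map_map] at e
  have e1 : op k l = nrm (mx (·.1) (l.map (ro k))) (mx (·.2.1) (l.map (ro k))) ∘ ro k := by
    funext v; rw [op, e]; rfl
  rw [← e1] at e
  refine ⟨by rw [e], by rw [e], fun v hv => ?_⟩
  have a2 : ro k v ∈ l.map (ro k) := mem_map_of_mem hv
  have a3 : op k l v ∈ l.map (op k l) := mem_map_of_mem hv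
  have a5 : ((op k l v).s : ℤ) = sj 0 0 v + mx (·.1) (l.map (ro k)) :=
    e1 ▸ Int.toNat_of_nonneg (le_mx (·.1) a2)
  have a6 : ((op k l v).q : ℤ) = s2 k v + mx (·.2.1) (l.map (ro k)) :=
    e1 ▸ Int.toNat_of_nonneg (le_mx (·.2.1) a2)
  have a7 : (op k l v).y = 0 → (op k l v).q = mx (·.2.1) (l.map (ro k)) := fun h => by
    rw [s2_zero h, zero_add] at a6; exact_mod_cast a6
  rw [e]
  generalize mx (·.2.1) (l.map (ro k)) = qo at a6 a7 ⊢
  have c1 := (le_cdiv (x := (op k l v).q - qo) fun e => by rw [a7 e, Nat.sub_self]).trans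
    (Nat.mul_le_mul_right _ (le_mo (fun _ q y => Nat.div (Nat.pred (Nat.add (Nat.sub q qo) y)) y) _ a3))
  have c2 := (le_cdiv (x := qo - (op k l v).q) fun e => by rw [a7 e, Nat.sub_self]).trans
    (Nat.mul_le_mul_right _ (le_mo (fun _ q y => Nat.div (Nat.pred (Nat.add (Nat.sub qo q) y)) y) _ a3))
  exact ⟨a5, a6, gc_dvd (fun s _ => s) _ _ a3, le_mo (fun s _ _ => s) _ a3, gc_dvd (fun _ q => q) _ _ a3,
    tsub_le_iff_left.1 c1, tsub_le_iff_left.1 c2⟩

noncomputable def nxA (A : An) (I : IT) (c : An → OL → Bool) : Bool :=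
  IT.rec (fun _ so qo s q a0 sm a1 rp rn O => An.rec (fun g0 r0 sm' g1 r1 off rp' rn' so' =>
    force (Nat.gcd a0 g0) fun g0 => force (Nat.mod (Nat.add s r0) g0) fun r0 =>
    force (Nat.add sm sm') fun sm => force (Nat.gcd a1 g1) fun g1 =>
    force (Nat.mod (Nat.add q r1) g1) fun r1 => force (Nat.add qo off) fun off =>
    force (Nat.add (Nat.sub rp rp') rp') fun rp => force (Nat.add (Nat.sub rn rn') rn') fun rn =>
    force (Nat.add so so') fun so => c ⟨g0, r0, sm, g1, r1, off, rp, rn, so⟩ O) A) I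

theorem nxA_sound {A : An} {I : IT} {c : An → OL → Bool} (h : Inv M A L)
    (ho : Ok I o) (h1 : nxA A I c = true) :
    ∃ A', c A' I.O = true ∧ Inv M A' (o :: L) ∧ A'.so = I.so + A.so ∧ A'.off = I.qo + A.off := by
  obtain ⟨g0, r0, sm, g1, r1, off, rp, rn, so'⟩ := A
  obtain ⟨m, so, qo, s, q, a0, sm', a1, rp', rn', O⟩ := I
  simp only [nxA, force_eq] at h1
  have e1 : ss (o :: L) = o.s + ss L := by simp [ss]
  have e2 : sq (o :: L) = o.q + sq L := by simp [sq]
  have e3 : sb (o :: L) = o.y + sb L := by simp [sb]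
  obtain ⟨d0, d1, d2, d3, d4, d5⟩ := h
  obtain ⟨b0, b1, b2, b3, b4⟩ := ho
  dsimp only at d0 d1 d2 d3 d4 d5 b0 b1 b2 b3 b4
  refine ⟨_, h1, ⟨?_, ?_, ?_, (Nat.gcd_dvd_right _ _).trans d3, ?_, ?_⟩, rfl, rfl⟩ <;> dsimp only
  · rw [e1, ← d0]
    exact (b0.of_dvd (Nat.gcd_dvd_left _ _)).add ((Nat.mod_modEq _ _).of_dvd (Nat.gcd_dvd_right _ _)).symm
  · exact e1 ▸ Nat.add_le_add b1 d1
  · rw [e2, ← d2]
    exact (b2.of_dvd (Nat.gcd_dvd_left _ _)).add ((Nat.mod_modEq _ _).of_dvd (Nat.gcd_dvd_right _ _)).symm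
  · have c1 := Nat.mul_le_mul_right o.y (le_tsub_add (b := rp') (a := rp))
    have c2 := Nat.mul_le_mul_right (sb L) (Nat.le_add_left rp (rp' - rp))
    change _ ≤ qo + off + (rp' - rp + rp) * _
    rw [e2, e3, mul_add]
    omega
  · have c1 := Nat.mul_le_mul_right o.y (le_tsub_add (b := rn') (a := rn))
    have c2 := Nat.mul_le_mul_right (sb L) (Nat.le_add_left rn (rn' - rn))
    change qo + off ≤ _ + (rn' - rn + rn) * _
    rw [e2, e3, mul_add]
    omega

variable {κ : Type} [DecidableEq κ]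

noncomputable def nod (W : ℕ) (A : An) (g : Go) (c : Go → Bool) : Bool :=
  An.rec (fun g0 r0 sm g1 r1 off rp rn _ => force (Nat.add W off) fun hi =>
    c (tst g0 r0 sm g1 r1 hi off rp rn g)) A

noncomputable def prep (mk : κ → IT) (W M : ℕ) (fin : ℕ → PP → Bool) (I : List κ) :
    (Go → An → OL → Bool) → Bool :=
  List.rec (motive := fun _ => (Go → An → OL → Bool) → Bool)
    (fun c => c (term W fin) ⟨0, 0, 0, M, 0, 0, 0, 0, 0⟩ .nil)
    (fun a L ih c => ih fun g A K => nxA A (mk a) fun A' K' => List.rec (force (Nat.gcd M 61) fun P =>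
        force (msk P K') fun m => c (tstM P m (stpN K g)) A' K')
        (fun b _ _ => Bool.rec (nod W A' (stpN K g) fun g => c g A' K')
          (nod W A' (stpS g) fun g => c g A' K') (decide (b = a))) L) I

def pay (mk : κ → List PP) (r : κ × ℕ) : PP := (mk r.1).getD r.2 []

theorem prep_sound (k : ℕ) (mk : κ → List PP) (hW : f ≤ W) (hM : M ∣ f) (R : List (κ × ℕ)) :
    ∀ {c : Go → An → OL → Bool}, (∀ r ∈ R, r.2 < (mk r.1).length) →
    R.Pairwise (fun r r' => r'.1 = r.1 → r.2 ≤ r'.2) →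
    prep (fun a => item k (mk a)) W M fin (R.map (·.1)) c = true → ∃ (g : Go) (A : An) (O L : List NO),
      c g A (toOL O) = true ∧ L.flatMap (·.v) = R.flatMap (pay mk) ∧ Inv M A L ∧
      (ss L : ℤ) = A.so + sj 0 0 (R.flatMap (pay mk)) ∧ (sq L : ℤ) = A.off + s2 k (R.flatMap (pay mk)) ∧
      sb L = sy (R.flatMap (pay mk)) ∧ (R = [] → L = []) ∧
      (∀ r ∈ R.head?, O = (mk r.1).map (op k (mk r.1))) ∧
      ∀ j, (∀ r ∈ R.head?, j ≤ r.2) → Re f fin g (toOL (O.drop j)) L := by
  induction R with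
  | nil =>
    intro c _ _ h
    exact ⟨_, _, [], [], h, rfl, ⟨rfl, le_rfl, Nat.zero_mod M, dvd_rfl, le_rfl, le_rfl⟩, rfl, rfl, rfl,
      fun _ => rfl, nofun, fun _ _ => .term hW⟩
  | cons r R ih =>
    intro c h1 h2 h
    rw [pairwise_cons] at h2
    obtain ⟨g, A, O, L, h3, h4, h5, h6, h7, h8, h11, h9, h10⟩ :=
      ih (fun a ha => h1 a (mem_cons_of_mem _ ha)) h2.2 h
    have a1 := h1 r mem_cons_self
    have a0 : (mk r.1)[r.2] = pay mk r := (getD_eq_getElem _ _ a1).symm
    have a2 : pay mk r ∈ mk r.1 := a0 ▸ getElem_mem _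
    obtain ⟨-, a3, a4⟩ := item_spec k (mk r.1)
    obtain ⟨a5, a6, a8⟩ := a4 _ a2
    have a7 : op k (mk r.1) (pay mk r) ∈ (mk r.1).map (op k (mk r.1)) := mem_map_of_mem a2
    obtain ⟨A', b1, b2, b3, b4⟩ := nxA_sound h5 a8 h3
    rw [a3] at b1
    simp only [force_eq] at b1
    have e : op k (mk r.1) (pay mk r) :: ((mk r.1).map (op k (mk r.1))).drop (r.2 + 1) =
        ((mk r.1).map (op k (mk r.1))).drop r.2 := by
      rw [drop_eq_getElem_cons (i := r.2) (by simpa using a1), getElem_map, a0]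
    have e' := fun j (hj : ∀ a ∈ (r :: R).head?, j ≤ a.2) => e.symm ▸
      drop_suffix_drop_left ((mk r.1).map (op k (mk r.1))) (hj r rfl)
    suffices h : ∃ g', c g' A' (toOL ((mk r.1).map (op k (mk r.1)))) = true ∧ ∀ j,
        (∀ a ∈ (r :: R).head?, j ≤ a.2) → Re f fin g' (toOL (((mk r.1).map (op k (mk r.1))).drop j))
          (op k (mk r.1) (pay mk r) :: L) by
      obtain ⟨g', c1, c2⟩ := h
      refine ⟨g', A', _, _, c1, by rw [flatMap_cons, flatMap_cons, h4]; rfl, b2, ?_, ?_, ?_, nofun,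
        by simp, c2⟩
      · simp only [ss, sj, map_cons, sum_cons, flatMap_cons, map_append, sum_append, b3] at a5 h6 ⊢
        push_cast at h6 ⊢
        linear_combination a5 + h6
      · simp only [sq, s2, map_cons, sum_cons, flatMap_cons, map_append, sum_append, b4] at a6 h7 ⊢
        rw [Nat.cast_add, Nat.cast_add]
        linear_combination a6 + h7
      · simp only [sb, sy, map_cons, sum_cons, flatMap_cons, map_append, sum_append] at h8 ⊢
        rw [h8]; rfl
    have c0 := h10 0 fun _ _ => Nat.zero_le _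
    cases R with
    | nil =>
      obtain rfl := h11 rfl
      exact ⟨_, b1, fun j hj => .tstM a7 ((Nat.gcd_dvd_left _ 61).trans hM) (c0.stpN (e' j hj))⟩
    | cons r' R =>
      obtain ⟨g0, r0, sm, g1, r1, off, rp, rn, so'⟩ := A'
      simp only [map_cons] at b1
      by_cases e1 : r'.1 = r.1
      · simp only [decide_eq_true e1, nod, force_eq] at b1
        refine ⟨_, b1, fun j hj => .tst b2 hW hM (.stpS ?_ (e' j hj))⟩
        rw [e, ← e1, ← h9 r' rfl]
        exact h10 _ fun a ha => Option.mem_some_iff.1 ha ▸ h2.1 r' mem_cons_self e1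
      · simp only [decide_eq_false e1, nod, force_eq] at b1
        exact ⟨_, b1, fun j hj => .tst b2 hW hM (c0.stpN (e' j hj))⟩

noncomputable def ins (f : κ → ℕ) (a : κ) (l : List κ) : List κ :=
  List.rec [a] (fun b t r => Bool.rec (b :: r) (a :: b :: t) (Nat.ble (f a) (f b))) l

noncomputable def isort (f : κ → ℕ) (l : List κ) : List κ := List.rec [] (fun a _ r => ins f a r) l

omit [DecidableEq κ] in
theorem isort_perm (f : κ → ℕ) (l : List κ) : isort f l ~ l := by
  induction l with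
  | nil => exact .refl _
  | cons a l ih =>
    refine Perm.trans (?_ : ins f a (isort f l) ~ _) (ih.cons a)
    induction isort f l with
    | nil => exact .refl _
    | cons b t ih =>
      change (Bool.rec (b :: ins f a t) (a :: b :: t) (Nat.ble (f a) (f b)) : List _) ~ _
      cases Nat.ble (f a) (f b)
      exacts [(ih.cons b).trans (.swap _ _ _), .refl _]

noncomputable def search (mk : κ → IT) (I : List κ) (T W M b : ℕ) (fin : ℕ → PP → Bool) : Bool :=
  Bool.rec true (prep mk W M fin (isort (fun a => (mk a).m) I) fun g A O =>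
    force A.so fun s => force (T + A.off) fun q => force b fun b => g O s q b [])
    (allR (fun a => Nat.ble 1 (mk a).m) I)

theorem sj_perm {k j : ℕ} {u v : PP} (h : u ~ v) : sj k j u = sj k j v := (h.map _).sum_eq

theorem s2_perm {k : ℕ} {u v : PP} (h : u ~ v) : s2 k u = s2 k v := (h.map _).sum_eq

theorem sy_perm {u v : PP} (h : u ~ v) : sy u = sy v := (h.map _).sum_eq

theorem allR_of {α : Type} {f : α → Bool} {l : List α} (h : ∀ a ∈ l, f a = true) : allR f l = true := by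
  induction l with
  | nil => rfl
  | cons b l ih =>
    change (Bool.rec false (allR f l) (f b) : Bool) = true
    rw [h b mem_cons_self, ih fun a ha => h a (mem_cons_of_mem _ ha)]

theorem search_sound {mk : κ → IT} (mk' : κ → List PP) {I : List κ} {k T b : ℕ}
    (hk : ∀ a, mk a = item k (mk' a))
    (R : List (κ × PP)) (hI : R.map (·.1) ~ I) (hR : ∀ r ∈ R, r.2 ∈ mk' r.1)
    (hs : sj 0 0 (R.flatMap (·.2)) = 0) (hq : s2 k (R.flatMap (·.2)) + f = T) (hW : f ≤ W)
    (hM : M ∣ f) (hb : sy (R.flatMap (·.2)) ≤ b) (h : search mk I T W M b fin = true) :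
    ∃ S, S ~ R.flatMap (·.2) ∧ fin f S = true := by
  obtain rfl := funext hk
  rw [search, allR_of fun a ha => by
    obtain ⟨r, h1, rfl⟩ := mem_map.1 (hI.symm.subset ha)
    exact Nat.ble_eq_true_of_le ((item_spec k _).1 ▸ length_pos_of_mem (hR r h1))] at h
  obtain ⟨R1, h1, h2, h3⟩ := exists_sorted id (isort (fun a => (item k (mk' a)).m) I)
    (R.map fun r => (r.1, (mk' r.1).idxOf r.2)) (by
      refine Perm.trans ?_ (isort_perm _ _).symm
      simpa only [map_map, Function.comp_def] using hI)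
  have h7 : ∀ r ∈ R, pay mk' (r.1, (mk' r.1).idxOf r.2) = r.2 := fun r hr => by
    simp only [pay, getD_eq_getElem?_getD, getElem?_idxOf (hR r hr)]; rfl
  have h5 : R1.flatMap (pay mk') ~ R.flatMap (·.2) := (h1.flatMap_right _).trans (by
    rw [flatMap_map]; exact .of_eq (flatMap_congr h7))
  rw [← h2] at h
  obtain ⟨g, A, O, L, a1, a2, -, a4, a5, a6, -, -, a7⟩ := prep_sound k mk' hW hM R1 (fun r hr => by
    obtain ⟨u, a, rfl⟩ := mem_map.1 (h1.subset hr)
    exact idxOf_lt_length_of_mem (hR u a)) h3 h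
  rw [sj_perm h5] at a4
  rw [s2_perm h5] at a5
  simp only [force_eq] at a1
  rw [show A.so = ss L by omega, show T + A.off = sq L + f by omega] at a1
  obtain ⟨S, b1, b2⟩ := a7 0 (fun _ _ => Nat.zero_le _) _ _ (by rw [a6, sy_perm h5]; exact hb) a1
  exact ⟨S, b1.trans (by rw [append_nil, a2]; exact h5), b2⟩

end Cfsg.Lib.MO24
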