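import Cfsg.Agent.Lib.MO24.Data

/-!
# The searches for the order `244823040`, part 1
-/

set_option autoImplicit false
set_option maxRecDepth 100000

namespace Cfsg.Lib.MO24

open List Cfsg.Lib.Golay Cfsg.Lib.MO Cfsg.Lib.Small

theorem r0a : candC 244823040 DN (DL fun _ => true) 23 (fun e _ => e == 2) (fun _ => false) = true := by
  decide +kernel

theorem r0b : ∀ m ∈ DN, m % 23 = 1 → ∀ e ∈ [11, 22], 244823040 % (23 * e * m) = 0 →
    244823040 / (23 * e * m) ≠ 1 → ∀ d ∈ divs 102 10395, e * m % d = 0 → 46 ≤ d → o23 d = true →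
      d ≤ 495 ∧ d % 11 = 0 ∧ 244823040 / (23 * e * m) % 11 ≠ 0 ∧
        ppart 2 (244823040 / (23 * e * m)) % 11 ≠ 1 := by decide +kernel

theorem r7a : runB 244823040 DN (DL o23) 7 (fun _ c => c % 11 == 0 && c % 23 != 0) 4 (fun _ => 244823040)
    (fun k => k % 2 == 1 && k % 23 == 0) (fun _ _ _ => false) = true := by decide +kernel

theorem r11a : runB 244823040 DN (DL o23) 11 (fun e c => e == 2 && c % 7 != 0 && c % 23 != 0) 4
    (fun _ => 244823040) (fun k => k % 2 == 1 && k % 23 == 0) (fun _ _ _ => false) = true := by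
  decide +kernel

theorem r11b : candC 244823040 DN (DL o23) 11 (fun e c => e != 2 && c % 7 != 0 && c % 23 != 0 && c != 1 &&
    (c % 5 == 0 || ppart 2 c % 5 == 1)) (fun _ => false) = true := by decide +kernel

theorem r7b : runB 244823040 DN (DL o23) 7 (fun _ c => c % 11 != 0 && c % 23 != 0 && c % 2 == 0) 28
    (fun _ => 244823040) (fun k => k % 5 != 0 && k % 11 != 0 && k % 23 == 0 && k % 7 != 0)
    (fun _ _ _ => false) = true := by decide +kernel

theorem r9 : ∀ a ∈ (DL o11).filter n9, ∀ b ∈ (DL o11).filter n9, a ≤ b → a + b ∈ DL o11 →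
    wt 23 (a + b) = wt 23 a + wt 23 b → wt 11 (a + b) = wt 11 a + wt 11 b → n9 (a + b) →
      [a, b, a + b] ∈ TR := by decide +kernel

theorem r23 : ∀ d ∈ DL o11, d % 23 = 0 → d % 11 ≠ 0 → wt 11 d * d ∈ L23 := by decide +kernel

end Cfsg.Lib.MO24
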