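import Cfsg.Agent.Lib.MO24.Data

/-!
# The searches for the order `244823040`, part 2
-/

set_option autoImplicit false
set_option maxRecDepth 100000

namespace Cfsg.Lib.MO24

open List Cfsg.Lib.Golay Cfsg.Lib.MO Cfsg.Lib.Small

noncomputable def r11 (f : ℕ → Bool) : Bool :=
  runB 244823040 DN (DL o23) 11 (fun e c => e != 2 && c % 7 != 0 && c % 23 != 0 && c != 1) 44
    (fun _ => 244823040) (fun k => k % 5 != 0 && k % 11 != 0 && k % 161 == 0 && f k) fun _ _ _ => false

theorem r11c : r11 (· == 1932) = true := by decide +kernel

theorem r11d : r11 (fun k => k != 1932 && k < 12000) = true := by decide +kernel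

theorem r11e : r11 (12000 ≤ ·) = true := by decide +kernel

end Cfsg.Lib.MO24
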