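import Cfsg.Agent.Lib.MO24.Data

/-!
# The searches for the order `244823040`, part 3
-/

set_option autoImplicit false
set_option maxRecDepth 100000

namespace Cfsg.Lib.MO24

open List Cfsg.Lib.Golay Cfsg.Lib.MO Cfsg.Lib.Small

theorem r5 : runB 244823040 DN (DL o11) 5 (fun _ c => c % 11 != 0 && c % 23 != 0 && c % 2 == 0) 20 fix11
    (fun k => k % 5 != 0 && k % 253 == 0) fin5 = true := by decide +kernel

theorem rB : candC 244823040 DN (DL o11) 23 (fun _ c => c == 1) finB = true := by decide +kernel

theorem rS32 : allR (runT S32) K32 = true := by decide +kernel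

end Cfsg.Lib.MO24
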