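import Cfsg.Agent.Lib.MO24.Data

/-!
# The searches for the order `244823040`, part 4
-/

set_option autoImplicit false
set_option maxRecDepth 100000

namespace Cfsg.Lib.MO24

open List Cfsg.Lib.Golay Cfsg.Lib.MO Cfsg.Lib.Small

theorem rSa : allR (runT S12) Ka = true := by decide +kernel

theorem rSb : allR (runT S12) Kb = true := by decide +kernel

theorem rSc : allR (runT S12) Kc = true := by decide +kernel

end Cfsg.Lib.MO24
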