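import Cfsg.Agent.Lib.MO24.Cand

/-!
# The searches through the columns of a character table
-/

set_option autoImplicit false

namespace Cfsg.Lib.MO24

open List Cfsg.Lib.Golay Cfsg.Lib.MO Cfsg.Lib.Small

def cg (k m c j : ℕ) (S : PP) : Bool := (c * sj k j S) % m == 0

noncomputable def it1 (kq t : ℕ) (s : ℤ) (d : ℕ) (l : List ℤ) : IT :=
  item kq (mp (fun u => rp t (s, d, u)) l)

def bnd (n r : ℕ) (fx : ℕ → ℕ) (md : Bool) (p e : ℕ) (v : ℤ) : ℕ :=
  min (min r (v.natAbs - 1)) (min (fx v.natAbs) (fb md n p e v))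

noncomputable def mkV (k M : ℕ) (B : ℕ → ℤ → ℕ) (e t s : ℕ) (v : ℤ) : IT :=
  force (B e v) fun b => frZ (s * v.sign) fun s => force v.natAbs fun d => it1 k t s d (dom k M b d)

/-- the items of a principal block -/
noncomputable def mkB (k M t : ℕ) (B : ℕ → ℤ → ℕ) (p e : ℕ) (w v : ℤ) : IT :=
  Int.rec (fun m => Nat.rec (item k [[(t, 1, 1)]]) (fun m _ => Nat.rec (IT.rec IT.mk (mkV k M B e t 1 w))
    (fun _ _ => IT.rec IT.mk (mkV k M B (p - 1) 1 t v)) m) m)
    (fun _ => IT.rec IT.mk (mkV k M B (p - 1) 1 t v)) v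

noncomputable def blk1 (n k h r M : ℕ) (fx : ℕ → ℕ) (p e c : ℕ) (w : ℤ) (l : List ℤ) (md : Bool)
    (F : PP → Bool) : Bool :=
  force ((p - 1) / e) fun t => force (t * p * h) fun m => force (cond md (m * c) 0) fun T =>
  search (mkB k M t (bnd n r fx md p) p e w) (0 :: 1 :: l) T T (cond md (m / m.gcd c) 0) h fun f S =>
    !(c * (T - f) == m * (c * (T - f) / m).sqrt ^ 2 && cg k (t * h) c 2 S && cg k (t * h) c 3 S) || F S

noncomputable def blk (n M : ℕ) (fx : ℕ → ℕ) (F : BD → ℕ → PP → Bool) (k h r : ℕ) (X : BD) : Bool :=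
  Prod.rec (fun p Y => Prod.rec (fun e Y => Prod.rec (fun c Y => Prod.rec (fun w l =>
    (c % 2 == 1 && k % p != 0) || (blk1 n k h r M fx p e c w l false (F X k) &&
      (e % 2 == 1 || blk1 n k h r M fx p e c w l true (F X k)))) Y) Y) Y) X

noncomputable def mL (f : ℕ → Bool) (L : List ℕ) : ℕ :=
  List.rec 0 (fun d _ r => Bool.rec r (Nat.lor (Nat.shiftLeft 1 d) r) (f d)) L

noncomputable def kd (M : ℕ) (fx : ℕ → ℕ) (L : List ℕ) (k r : ℕ) : ℕ :=
  mL (fun d => ne k M (min (min r (d - 1)) (fx d)) d) L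

noncomputable def frK (n M : ℕ) (fx : ℕ → ℕ) (L : List ℕ) (f : ℕ → ℕ → ℕ → BD → Bool) (K : List ℕ) :
    (ℕ → (BD → List ℕ → Bool) → Bool) → Bool :=
  List.rec (motive := fun _ => (ℕ → (BD → List ℕ → Bool) → Bool) → Bool) (fun c => c 0 fun _ _ => true)
    (fun k _ ih c => force k fun k => force (n / k) fun h => force h.sqrt fun r =>
      force (kd M fx L k r) fun m => ih fun U g => force (Nat.lor m U) fun U => c U fun X x =>
        Bool.rec false (g X x) (Bool.rec true (f k h r X) (allR (tb m) x))) K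

noncomputable def frV (c : List ℕ → Bool) (l : List ℤ) : List ℕ → Bool :=
  List.rec (motive := fun _ => List ℕ → Bool) c
    (fun a _ ih L => force a.natAbs fun d => ih (d :: L)) l

noncomputable def runB (n : ℕ) (D L : List ℕ) (p : ℕ) (ok : ℕ → ℕ → Bool) (M : ℕ) (fx : ℕ → ℕ)
    (kc : ℕ → Bool) (F : BD → ℕ → PP → Bool) : Bool :=
  Grp.forceL L fun L =>
    frK n M fx L (blk n M fx F) (fl (fun k => Nat.beq (Nat.mod n (Nat.mul 2 k)) 0 && kc k) D) fun U g =>
      Grp.forceL (fl (tb U) L) fun L' => candC n D L' p ok fun X =>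
        frV (g X) (X.2.2.2.1 :: X.2.2.2.2) []

/-! ### Blocks of self-centralizing subgroups and `3`-blocks of defect one -/

def wt (p d : ℕ) : ℤ := if p = 23 then (if d % 23 = 0 then 0 else if d % 23 = 1 then 2 else
  if d % 23 = 22 then -2 else if d % 23 = 12 then 1 else -1) else
  if d % 11 = 0 then 0 else if d % 11 = 1 then 1 else -1

def fix11 (d : ℕ) : ℕ := if d % 11 = 0 then d / 11 else if d % 11 = 1 then (d + 10) / 11 else (d - 10) / 11

def n9 (d : ℕ) : Bool := Nat.beq (Nat.mod d 9) 0 && !Nat.beq (Nat.mod d 27) 0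

def TR : List (List ℕ) := [[45, 990, 1035], [252, 5544, 5796], [495, 495, 990], [495, 2277, 2772],
  [990, 4554, 5544], [1035, 2277, 3312], [2277, 2277, 4554], [2277, 9108, 11385], [2772, 2772, 5544],
  [2772, 6336, 9108], [3312, 5796, 9108], [4554, 4554, 9108], [6336, 6336, 12672]]

noncomputable def mem (x : ℕ) (l : List ℕ) : Bool :=
  List.rec false (fun a _ r => Bool.rec r true (Nat.beq a x)) l

noncomputable def er (x : ℕ) (l : List ℕ) : List ℕ :=
  List.rec [] (fun a t r => Bool.rec (a :: r) t (Nat.beq a x)) l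

noncomputable def ers (c : List ℕ → Bool) (t : List ℕ) : List ℕ → Bool :=
  List.rec (motive := fun _ => List ℕ → Bool) c
    (fun x _ ih U => Bool.rec true (ih (er x U)) (mem x U)) t

noncomputable def trs (d : ℕ) : List (List ℕ) := [d, d, d] :: fl (mem d) TR

noncomputable def part (p f : ℕ) : List ℕ → (List (List ℕ) → Bool) → Bool :=
  Nat.rec (motive := fun _ => List ℕ → (List (List ℕ) → Bool) → Bool) (fun _ _ => false)
    (fun _ ih U c => List.rec (c []) (fun d U' _ => force d fun d => allR (fun t =>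
      ers (fun V => ih V fun P => c (t :: P)) (fl (fun x => !Nat.beq (Nat.mod x p) 0) t) (d :: U'))
      (trs d)) U) f

def om (k d : ℕ) (u : ℤ) : ℕ := (k * u / d % 3).toNat

abbrev TE := ℤ × ℕ × ℕ

noncomputable def te (k r d : ℕ) (l : List ℤ) : List TE :=
  List.rec (motive := fun _ => (List TE → List TE) → List TE) (fun c => c [])
    (fun (u : ℤ) _ ih c => force (u + r).toNat fun o => force (om k d u) fun m =>
      ih fun L => c ((u, o, m) :: L)) l id

noncomputable def mk3 (r : ℕ) (l : List TE) : ℕ :=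
  List.rec 0 (fun a _ ih => Nat.lor (Nat.shiftLeft 1 (Nat.add (Nat.mul 3 (Nat.add a.2.1 r)) a.2.2)) ih) l

noncomputable def tri (p k r : ℕ) (dm : ℕ → List ℤ) : List ℕ → List PP
  | [a, b, c] => frZ (wt p a) fun wa => Bool.rec
      (frZ (wt p b) fun wb => frZ (wt p c) fun wc => force (mk3 r (te k r c (dm c))) fun m =>
        fm (fun x : TE => Prod.rec (fun u x => Prod.rec (fun o j =>
          mp (fun y : TE => [(wa, a, u), (wb, b, y.1), (wc, c, Int.add u y.1)])
          (fl (fun y : TE => Bool.rec false (tb m (Nat.add (Nat.mul 3 (Nat.add o y.2.1)) j))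
            (Nat.beq j y.2.2)) (te k r b (dm b)))) x) x) (te k r a (dm a)))
      (mp (fun u => [(wa, a, u), (wa, a, u), (wa, a, u)]) (dm a)) (Nat.beq a c)
  | _ => []

def has (a : DV) (o : PP) : Bool := o.any fun u => u.2 == a

noncomputable def mkS (p t k kq r : ℕ) (dm : ℕ → List ℤ) (a0 : DV) : ℕ × List ℕ → IT
  | (0, _) => item kq [[(t, 1, 1)]]
  | (1, l) => item kq (fl (has a0) (tri p k r dm l))
  | (2, l) => item kq (tri p k r dm l)
  | (m + 3, l) => force (m + 1) fun m => force (l.headD 0) fun d => frZ (wt p d) fun s => it1 kq m s d (dm d)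

noncomputable def srch (p t k kq T h b r : ℕ) (dm : ℕ → List ℤ) (a0 : DV) (Y l : List ℕ)
    (F : PP → Bool) : Bool :=
  part p 13 (a0.1 :: er a0.1 (fl n9 (Y ++ (Y ++ l)))) fun P => List.rec false (fun t0 P _ =>
    search (mkS p t k kq r dm a0) ((0, []) :: (1, t0) :: (mp (2, ·) P ++
      (mp (fun d => (4, [d])) (fl (fun d => !n9 d) Y) ++ mp (fun d => (3, [d])) (fl (fun d => !n9 d) l))))
      T 0 0 b fun _ S => !(cg k (t * h) 1 1 S && cg k (t * h) 1 2 S && cg k (t * h) 1 3 S) || F S) P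

noncomputable def srB (k kq h b r : ℕ) (dm : ℕ → List ℤ) (a0 : DV) (X : BD) (F : PP → Bool) : Bool :=
  force X.2.2.2.1.natAbs fun w => Grp.forceL (mp Int.natAbs X.2.2.2.2) fun l =>
    srch 23 2 k kq 0 h b r dm a0 [w] l F

noncomputable def dm5 (k r d : ℕ) : List ℤ :=
  if d % 5 = 0 then [0] else frL (fl (fun a => -4 * a ≤ fix11 d) (dom k 5 (min r (fix11 d)) d)) id

noncomputable def dm2 (k r d : ℕ) : List ℤ := dom k 4 (min r (fix11 d)) d

/-- the column of an element of order `5` -/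
noncomputable def run5 (n c : ℕ) (X : BD) : Bool :=
  force (n / (5 * c)) fun k => force (5 * c).sqrt fun r => force (5 * c) fun h => force (h - 2) fun b =>
    srB k 0 h b r (dm5 k r) (5544, -1) X fun _ => false

def L23 : List ℤ := [15456, -12880, 12420, -8832, 7360, -5796, 4830, 3312, -2760, 1288, -1242, 1035,
  -736, -483, 276, -230, 23]

/-- class size, values at the degrees `5544` and `5796`, and the other two members -/
abbrev KV := ℕ × ℤ × ℤ × DV × DV

noncomputable def runA (n : ℕ) (q : KV) (h b r : ℕ) (X : BD) (F : List ℕ → PP → Bool) (S : PP) : Bool :=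
  Grp.forceL (fl (· % 11 != 0) (degL X)) fun A =>
  force (b - sy (fl (fun a => a.2.1 % 11 == 0 && a.2.1 % 23 != 0 && !n9 a.2.1) S)) fun b =>
  force (1 + q.2.2.2.1.1 ^ 2 + q.2.2.2.2.1 ^ 2 + 5796 ^ 2 + ((degL X).map (· ^ 2)).sum) fun y =>
  force A.length fun a => frZ (5795 - (A.map fun d => wt 11 d * d).sum) fun s =>
  n < y || 9 < a || if a = 9 then s != 0 else
    frS L23 fun L => force (mS L) fun ms => force (s + (9 - a) * 16384).toNat fun s =>
      force (8 - a) fun j => force (n - y) fun y => sol ms (fun l => Grp.forceL (5796 :: (A ++ mp Int.natAbs l))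
        fun V => srch 11 1 q.1 q.1 (11 * h) h b r (dm2 q.1 r) (5796, q.2.2.1) [] V (F V)) j L s y []

noncomputable def runS (n : ℕ) (F : BD → List ℕ → PP → Bool) (L : List BD) (q : KV) : Bool :=
  force (n / q.1) fun h => force h.sqrt fun r =>
    force (h - (q.2.2.2.1.2.natAbs ^ 2 + q.2.2.2.2.2.natAbs ^ 2)) fun b => allR (fun X =>
      srB q.1 q.1 h b r (dm2 q.1 r) (5544, q.2.1) X (runA n q h b r X (F X))) L

end Cfsg.Lib.MO24
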