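import Cfsg.Agent.Lib.MO24.Run

/-!
# Soundness of the searches
-/

set_option autoImplicit false

namespace Cfsg.Lib.MO24

open List Cfsg.Lib.Golay Cfsg.Lib.MO Cfsg.Lib.Small

theorem tb_mL {f : ℕ → Bool} {L : List ℕ} {d : ℕ} (h : d ∈ L) (h1 : f d = true) : tb (mL f L) d = true := by
  rw [tb_eq]
  induction L with
  | nil => cases h
  | cons a L ih =>
    change Nat.testBit (Bool.rec (mL f L) (1 <<< a ||| mL f L) (f a)) _ = true
    rcases mem_cons.1 h with rfl | h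
    · simp [h1, Nat.testBit_shiftLeft]
    · cases f a <;> simp [ih h]

variable {n M k h r p e c t : ℕ} {fx : ℕ → ℕ} {L D : List ℕ} {w u : ℤ} {l : List ℤ}

theorem frK_sound {f : ℕ → ℕ → ℕ → BD → Bool} (K : List ℕ) : ∀ {c}, frK n M fx L f K c = true →
    ∃ U g, c U g = true ∧ ∀ k ∈ K, (∀ d, tb (kd M fx L k (n / k).sqrt) d = true → tb U d = true) ∧
      ∀ X x, g X x = true → (∀ d ∈ x, tb (kd M fx L k (n / k).sqrt) d = true) →
        f k (n / k) (n / k).sqrt X = true := by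
  induction K with
  | nil => exact fun h => ⟨_, _, h, nofun⟩
  | cons k K ih =>
    intro c h
    change force k (fun k => force (n / k) fun h => force h.sqrt fun r => force (kd M fx L k r) fun m =>
      frK n M fx L f K fun U g => force (m ||| U) fun U => c U fun X x =>
        Bool.rec false (g X x) (Bool.rec true (f k h r X) (allR (tb m) x))) = true at h
    simp only [force_eq] at h
    obtain ⟨U, g, h1, h2⟩ := ih h
    refine ⟨_, _, h1, forall_mem_cons.2 ⟨⟨fun d a => ?_, fun X x a b => imp_of_rec (and_of_rec a).1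
      (allR_of b)⟩, fun j hj => ⟨fun d a => ?_, fun X x a => (h2 j hj).2 X x (and_of_rec a).2⟩⟩⟩
    · rw [tb_eq] at a ⊢; simp [a]
    · have := (h2 j hj).1 d a
      rw [tb_eq] at this ⊢; simp [this]

theorem frV_eq (c : List ℕ → Bool) (l : List ℤ) : ∀ L, frV c l L = c ((l.map Int.natAbs).reverse ++ L) := by
  induction l with
  | nil => exact fun _ => rfl
  | cons a l ih =>
    intro L
    change force a.natAbs (fun d => frV c l (d :: L)) = _
    simp [ih]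

theorem runB_sound {m : ℕ} {Z : Set ℕ} {ok : ℕ → ℕ → Bool} {kc : ℕ → Bool} {F : BD → ℕ → PP → Bool}
    (hC : Cfg n Z p m e c w l) (h0 : n ≠ 0) (hn : n ≤ 16384 ^ 2) (hD : ∀ d, d ∣ n → d ∈ D)
    (hL : L.Pairwise (· ≥ ·)) (hM : 0 < M) (hk : 2 * k ∣ n) (hk' : kc k = true)
    (h1 : ∀ v ∈ w :: l, v.natAbs ∈ L ∧ ∃ x, Adm k M (min (min (n / k).sqrt (v.natAbs - 1))
      (fx v.natAbs)) v.natAbs x) (hc : ok e c = true) (hw : e + 1 = p → ∀ v ∈ l, w ≤ v)
    (h : runB n D L p ok M fx kc F = true) :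
    ∃ l', l' ~ l ∧ blk n M fx F k (n / k) (n / k).sqrt (p, e, c, w, l') = true := by
  rw [runB, Grp.forceL_eq] at h
  obtain ⟨U, g, h2, h3⟩ := frK_sound _ h
  obtain ⟨h4, h5⟩ := h3 k (by
    rw [fl_eq, mem_filter, hk', beq_of (a := Nat.mod n (Nat.mul 2 k)) (Nat.mod_eq_zero_of_dvd hk)]
    exact ⟨hD k ((dvd_mul_left k 2).trans hk), rfl⟩)
  have h6 : ∀ v ∈ w :: l, tb (kd M fx L k (n / k).sqrt) v.natAbs = true := fun v hv => by
    obtain ⟨a, x, b⟩ := h1 v hv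
    exact tb_mL a (mem_dom (Nat.pos_of_mul_pos_left (Nat.pos_of_dvd_of_pos hk (Nat.pos_of_ne_zero h0)))
      (zero_lt_one.trans (hC.deg v hv).2.1) hM b).2
  rw [Grp.forceL_eq, fl_eq] at h2
  obtain ⟨l', h7, h8⟩ := candC_sound hC h0 hn (hD m ⟨p * e * c, by rw [hC.card]; ring⟩) (hL.filter _)
    (fun v hv => mem_filter.2 ⟨(h1 v hv).1, h4 _ (h6 v hv)⟩) hc hw h2
  rw [frV_eq] at h8
  refine ⟨l', h7, h5 _ _ h8 fun d hd => ?_⟩
  rw [append_nil, mem_reverse, mem_map] at hd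
  obtain ⟨v, hv, rfl⟩ := hd
  exact h6 v ((h7.cons w).subset hv)

/-- the values on a principal block -/
def pB (t : ℕ) (w u : ℤ) (U : List (ℤ × ℤ)) : PP := (t, 1, 1) :: (replicate t (w.sign, w.natAbs, u) ++
  U.map fun a => ((t : ℤ) * a.1.sign, a.1.natAbs, a.2))

noncomputable def mkB' (k M t : ℕ) (B : ℕ → ℤ → ℕ) (p e : ℕ) (w v : ℤ) : List PP :=
  if v = 0 then [[(t, 1, 1)]] else if v = 1 then
    (dom k M (B e w) w.natAbs).map fun u => replicate t (w.sign, w.natAbs, u)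
  else (dom k M (B (p - 1) v) v.natAbs).map fun u => [(t * v.sign, v.natAbs, u)]

theorem mkB_eq (B : ℕ → ℤ → ℕ) (v : ℤ) : mkB k M t B p e w v = item k (mkB' k M t B p e w v) := by
  have h1 : ∀ e t s v, (IT.rec IT.mk (mkV k M B e t s v) : IT) = item k
      ((dom k M (B e v) v.natAbs).map fun u => replicate t (s * v.sign, v.natAbs, u)) := fun e t s v => by
    change mkV k M B e t s v = _
    simp only [mkV, force_eq, frZ_eq, it1, mp_eq, rp_eq]
  rcases v with (_ | _ | v) | v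
  · rfl
  · exact (h1 _ _ _ _).trans (by simp [mkB'])
  · exact (h1 _ _ _ _).trans (by rw [mkB', if_neg (by simp; omega), if_neg (by simp; omega)]; rfl)
  · exact (h1 _ _ _ _).trans (by rw [mkB', if_neg nofun, if_neg nofun]; rfl)

theorem cg_of {m j : ℕ} {S P : PP} (h : S ~ P) (h1 : (m : ℤ) ∣ c * sj k j P) : cg k m c j S = true := by
  rw [cg, sj_perm h, Int.emod_eq_zero_of_dvd h1]; rfl

theorem blk1_sound {U : List (ℤ × ℤ)} {md : Bool} {F : PP → Bool} {i : ℕ} (ht : (p - 1) / e = t)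
    (hk : 0 < k) (hM : 0 < M) (hm : 0 < t * p * h) (hc : 0 < c)
    (h1 : Adm k M (bnd n r fx md p e w) w.natAbs u ∧ 1 < w.natAbs)
    (h2 : ∀ a ∈ U, Adm k M (bnd n r fx md p (p - 1) a.1) a.1.natAbs a.2 ∧ 1 < a.1.natAbs)
    (h3 : sj 0 0 (pB t w u U) = 0) (h4 : sy (pB t w u U) ≤ h)
    (h5 : ∀ j, ((t * h : ℕ) : ℤ) ∣ c * sj k j (pB t w u U)) (h6 : i ≤ c) (h7 : md = false → i = 0)
    (h8 : c * s2 k (pB t w u U) = (t * p * h * i ^ 2 : ℕ))
    (H : blk1 n k h r M fx p e c w (U.map (·.1)) md F = true) : ∃ S, S ~ pB t w u U ∧ F S = true := by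
  simp only [blk1, force_eq, ht] at H
  generalize t * p * h = m at H hm h8
  obtain ⟨q, hq⟩ : ∃ q : ℕ, s2 k (pB t w u U) = q := Int.eq_ofNat_of_zero_le
    (nonneg_of_mul_nonneg_right (h8 ▸ Int.natCast_nonneg _) (Int.natCast_pos.2 hc))
  rw [hq, ← Nat.cast_mul, Nat.cast_inj] at h8
  have a1 : q ≤ cond md (m * c) 0 ∧ cond md (m / m.gcd c) 0 ∣ cond md (m * c) 0 - q := by
    cases md
    · rw [h7 rfl] at h8
      simp [show q = 0 by simpa [hc.ne'] using h8]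
    · have a1 : q ≤ m * c := Nat.le_of_mul_le_mul_left (by
        rw [h8, mul_left_comm, ← pow_two]
        exact Nat.mul_le_mul_left m (Nat.pow_le_pow_left h6 2)) hc
      have a2 := Nat.gcd_pos_of_pos_left c hm
      refine ⟨a1, (Nat.coprime_div_gcd_div_gcd a2).dvd_of_dvd_mul_left (Nat.dvd_of_mul_dvd_mul_left a2 ?_)⟩
      rw [← mul_assoc, Nat.mul_div_cancel' (Nat.gcd_dvd_left _ _), Nat.mul_div_cancel' (Nat.gcd_dvd_right _ _),
        cond_true, Nat.mul_sub, h8]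
      exact Nat.dvd_sub ⟨c * c, by ring⟩ (dvd_mul_right _ _)
  have e : ((0, [((t : ℤ), 1, (1 : ℤ))]) :: ((1 : ℤ), replicate t (w.sign, w.natAbs, u)) :: U.map fun a =>
      (a.1, [((t : ℤ) * a.1.sign, a.1.natAbs, a.2)])).flatMap (·.2) = pB t w u U := by
    simp [pB, flatMap_map, ← map_eq_flatMap]
  obtain ⟨S, a2, a3⟩ := search_sound _ (mkB_eq _) _ (by simp [Function.comp_def]) (forall_mem_cons.2
    ⟨by simp [mkB'], forall_mem_cons.2 ⟨mem_map_of_mem (mem_dom hk (by omega) hM h1.1).1,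
      forall_mem_map.2 fun a ha => by
        have := (h2 a ha).2
        rw [mkB', if_neg (by omega), if_neg (by omega)]
        exact mem_map_of_mem (mem_dom hk (by omega) hM (h2 a ha).1).1⟩⟩)
    (e ▸ h3) (f := cond md (m * c) 0 - q) (by rw [e, hq]; omega) (Nat.sub_le _ _) a1.2 (e ▸ h4) H
  rw [e] at a2
  rw [Nat.sub_sub_self a1.1, h8, Nat.mul_div_cancel_left _ hm, Nat.sqrt_eq', cg_of a2 (h5 2),
    cg_of a2 (h5 3)] at a3
  exact ⟨S, a2, by simpa using a3⟩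

theorem blk_sound {U : List (ℤ × ℤ)} {F : BD → ℕ → PP → Bool} {i : ℕ} (ht : (p - 1) / e = t)
    (hk : 0 < k) (hM : 0 < M) (hm : 0 < t * p * h) (hc : 0 < c) (hr : r ≤ n)
    (h1 : ∀ a ∈ (w, u) :: U, Adm k M (min (min r (a.1.natAbs - 1)) (fx a.1.natAbs)) a.1.natAbs a.2 ∧
      1 < a.1.natAbs)
    (h3 : sj 0 0 (pB t w u U) = 0) (h4 : sy (pB t w u U) ≤ h)
    (h5 : ∀ j, ((t * h : ℕ) : ℤ) ∣ c * sj k j (pB t w u U)) (h6 : i ≤ c)
    (h7 : i ≠ 0 → 2 ∣ e ∧ u.natAbs ≤ fb true n p e w ∧ ∀ a ∈ U, a.2.natAbs ≤ fb true n p (p - 1) a.1)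
    (h8 : c * s2 k (pB t w u U) = (t * p * h * i ^ 2 : ℕ)) (h9 : ¬ 2 ∣ c → p ∣ k)
    (H : blk n M fx F k h r (p, e, c, w, U.map (·.1)) = true) :
    ∃ S, S ~ pB t w u U ∧ F (p, e, c, w, U.map (·.1)) k S = true := by
  simp only [blk, Bool.or_eq_true, Bool.and_eq_true, beq_iff_eq, bne_iff_ne] at H
  replace H := H.resolve_left fun a => a.2 (Nat.mod_eq_zero_of_dvd (h9 (by omega)))
  have a : ∀ md e, ∀ a ∈ (w, u) :: U, a.2.natAbs ≤ fb md n p e a.1 →
      Adm k M (bnd n r fx md p e a.1) a.1.natAbs a.2 ∧ 1 < a.1.natAbs := fun md e a ha b => by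
    obtain ⟨⟨a1, a2, a3⟩, a4⟩ := h1 a ha
    exact ⟨⟨a1, by unfold bnd; omega, a3⟩, a4⟩
  have b : ∀ e, ∀ a ∈ (w, u) :: U, a.2.natAbs ≤ fb false n p e a.1 := fun e a ha => by
    have := (h1 a ha).1.2.1
    change _ ≤ n
    omega
  by_cases e0 : i = 0
  · exact blk1_sound ht hk hM hm hc (a _ _ _ mem_cons_self (b _ _ mem_cons_self)) (fun x hx =>
      a _ _ _ (mem_cons_of_mem _ hx) (b _ _ (mem_cons_of_mem _ hx))) h3 h4 h5 h6 (fun _ => e0) h8 H.1
  · obtain ⟨a1, a2, a3⟩ := h7 e0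
    exact blk1_sound ht hk hM hm hc (a _ _ _ mem_cons_self a2) (fun x hx =>
      a _ _ _ (mem_cons_of_mem _ hx) (a3 x hx)) h3 h4 h5 h6 nofun h8 (H.2.resolve_left (by omega))

end Cfsg.Lib.MO24
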